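import Cfsg.Agent.RC2.Defs
import Cfsg.Agent.S2119

/-!
# Real classes with equal 2-parts: the alternating groups of degree five and seven
-/

set_option autoImplicit false

namespace Cfsg.Lib.RC2

open Subgroup Cfsg.Lib.Gold Cfsg.Lib.Trans Equiv Equiv.Perm

private theorem alt_gen {n : ℕ} (hn : 4 ≤ n) (h6 : n ≠ 6) {A : Set (MulAut (alternatingGroup (Fin n)))}
    (h : AA (alternatingGroup (Fin n)) A) (x t m : alternatingGroup (Fin n)) (x1 : x ≠ 1)
    (x5 : x ^ 5 = 1) (t2 : t * t = 1) (tx : t * x * t⁻¹ = x⁻¹)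
    (hs : ∀ s : Perm (Fin n), s * x = x * s → s * t = t * s → s * m = m * s)
    (y1 : x * x * (m * x * m⁻¹) ≠ 1) (y2 : (x * x * (m * x * m⁻¹)) ^ 2 = 1) : False := by
  have : Fact (Nat.Prime 5) := ⟨by norm_num⟩
  have : Fact (Nat.Prime 2) := ⟨Nat.prime_two⟩
  have hb := Agent.S2119.result n hn h6
  obtain ⟨β, -, -, -, b1, b2, N, hN, xN, hm⟩ := h.key x x1 (by rw [orderOf_eq_prime x5 x1]; decide)
    (MulAut.conj t) (h.inn t) (tw_of_sq (by rw [← map_mul, t2, map_one])) tx
  obtain ⟨s, rfl⟩ := hb.2 β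
  have k : ∀ a : alternatingGroup (Fin n), MulAut.conjNormal s a = a ↔ s * a = a * s := fun a =>
    Subtype.ext_iff.trans (by rw [MulAut.conjNormal_apply, mul_inv_eq_iff_eq_mul])
  rw [← MulAut.conjNormal_val, ← map_mul, ← map_mul] at b2
  have h1 := mul_mem (mul_mem xN xN) (hm m ((k m).2 (hs s ((k x).1 b1) (hb.1 b2))) x xN)
  have h2 := odd_orderOf_of_mem h1 hN
  rw [orderOf_eq_prime y2 y1] at h2
  exact absurd h2 (by decide)

private theorem alt_fix {n : ℕ} {x t m s : Perm (Fin n)} {a : Fin n} (ta : t a = a) (xa : x a ≠ a)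
    (u : ∀ b, t b = b → x b ≠ b → b = a)
    (d : ∀ b, b = a ∨ b = x a ∨ b = x (x a) ∨ b = x (x (x a)) ∨ b = x (x (x (x a))) ∨ m b = b)
    (h1 : s * x = x * s) (h2 : s * t = t * s) : s * m = m * s := by
  have e : ∀ b, s b = b → s (x b) = x b := fun b hb => by
    rw [← mul_apply, h1, mul_apply, hb]
  have e0 : s a = a := u _ (by rw [← mul_apply, ← h2, mul_apply, ta]) fun f => xa (s.injective (by
    rw [← mul_apply, h1, mul_apply, f]))
  refine (Perm.Disjoint.commute fun b => ?_).eq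
  rcases d b with rfl | rfl | rfl | rfl | rfl | f
  exacts [.inl e0, .inl (e _ e0), .inl (e _ (e _ e0)), .inl (e _ (e _ (e _ e0))),
    .inl (e _ (e _ (e _ (e _ e0)))), .inr f]

theorem alt5 {A : Set (MulAut (alternatingGroup (Fin 5)))} (h : AA (alternatingGroup (Fin 5)) A) :
    False :=
  alt_gen (by norm_num) (by norm_num) h
    ⟨swap 0 4 * swap 0 3 * swap 0 2 * swap 0 1, mem_alternatingGroup.2 (by decide)⟩
    ⟨swap 1 4 * swap 2 3, mem_alternatingGroup.2 (by decide)⟩
    ⟨swap 0 1 * swap 2 3, mem_alternatingGroup.2 (by decide)⟩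
    (by decide) (by decide) (by decide) (by decide)
    (fun _ => alt_fix (a := 0) (by decide) (by decide) (by decide) (by decide)) (by decide)
    (by decide +kernel)

theorem alt7 {A : Set (MulAut (alternatingGroup (Fin 7)))} (h : AA (alternatingGroup (Fin 7)) A) :
    False :=
  alt_gen (by norm_num) (by norm_num) h
    ⟨swap 0 4 * swap 0 3 * swap 0 2 * swap 0 1, mem_alternatingGroup.2 (by decide)⟩
    ⟨swap 1 4 * swap 2 3, mem_alternatingGroup.2 (by decide)⟩
    ⟨swap 0 1 * swap 2 3, mem_alternatingGroup.2 (by decide)⟩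
    (by decide) (by decide) (by decide) (by decide)
    (fun _ => alt_fix (a := 0) (by decide) (by decide) (by decide) (by decide)) (by decide)
    (by decide +kernel)

end Cfsg.Lib.RC2
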