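import Cfsg.Agent.RC2.Defs
import Cfsg.Agent.S3861
import Cfsg.Agent.Cor.OddSol

/-!
# Real classes with equal 2-parts (S3860): the working forms of the almost simple situation
-/

set_option autoImplicit false
set_option linter.unusedSectionVars false

namespace Cfsg.Lib.RC2

open Subgroup Cfsg.Lib.Gold Cfsg.Lib.Trans

variable {G : Type*} [Group G] [Finite G] {M : Subgroup G}

omit [Finite G] in
theorem bas_not_solvable [IsSimpleGroup G] (hc : ¬ IsMulCommutative G) : ¬ Group.IsSolvable G :=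
  fun h => hc ⟨⟨IsSimpleGroup.comm_iff_isSolvable.2 h⟩⟩

theorem bas_oddCore [IsSimpleGroup G] (hc : ¬ IsMulCommutative G) : oddCore G = ⊥ := by
  rcases (inferInstance : (oddCore G).Normal).eq_bot_or_eq_top with h | h
  · exact h
  · have := Solv.odd_card_oddCore G
    rw [h, card_top] at this
    exact absurd (FT.odd_order_solvable this) (bas_not_solvable hc)

theorem bas_real [IsSimpleGroup G] (hc : ¬ IsMulCommutative G) :
    ∃ x : G, x ≠ 1 ∧ Odd (orderOf x) ∧ ∃ t : G, Tw t ∧ t * x * t⁻¹ = x⁻¹ := by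
  obtain ⟨P⟩ : Nonempty (Sylow 2 G) := inferInstance
  by_contra h
  refine bas_not_solvable hc (Cor.isSolvable_of_normal_sylow_two P
    ((Agent.S3861.result P).1 fun x x1 ho hx => h ?_))
  obtain ⟨y, hy⟩ := isConj_iff.1 hx
  obtain ⟨m, -, h2, h3⟩ := exists_tw_inverts hy
  exact ⟨x, x1, ho, _, h2, h3⟩

theorem AS.ak (h : AS M) : AK M := by
  have := h.simple
  have hr : ∃ x ∈ M, x ≠ 1 ∧ Odd (orderOf x) ∧ ∃ t ∈ M, Tw t ∧ t * x * t⁻¹ = x⁻¹ := by
    obtain ⟨x, x1, ho, t, h2, h3⟩ := bas_real h.noncomm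
    exact ⟨x, x.2, fun e => x1 (Subtype.ext e), by rwa [orderOf_coe], t, t.2, h2.map M.subtype,
      congrArg Subtype.val h3⟩
  refine ⟨h.normal, h.simple, h.noncomm, fun x hx x1 ho y h2 hy => ?_, fun j hj hle => ?_, hr⟩
  · obtain ⟨j, hj, h3, h4⟩ := exists_inv_comm' (h.h0 x hx x1 ho y hy) h2 hy
    exact ⟨j, hj, h4, h.hs j hj x ⟨hx, h3⟩ ho y h4 hy⟩
  · obtain ⟨x, hx, x1, ho, t, ht, -, h3⟩ := hr
    have h1 := h.hs j hj x ⟨hx, hle hx⟩ ho t (hle ht) h3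
    rw [inf_of_le_left hle, Oc, ppCoreOf_eq_bot_iff.2 (bas_oddCore h.noncomm)] at h1
    exact x1 h1

omit [Finite G] in
theorem bas_map_C1 (e : M) : (C1 e).map M.subtype = M ⊓ C1 (e : G) := by
  ext g
  constructor
  · rintro ⟨x, hx, rfl⟩
    exact ⟨x.2, mem_C1.2 (congrArg Subtype.val (mem_C1.1 hx))⟩
  · rintro ⟨h1, h2⟩
    exact ⟨⟨g, h1⟩, mem_C1.2 (Subtype.ext (mem_C1.1 h2)), rfl⟩

theorem AS.inn (h : AS M) : IN M := fun e he x hx ho y hy hi => by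
  have h1 := h.hs e (by rwa [orderOf_coe]) x
    ⟨x.2, mem_C1.2 (congrArg Subtype.val (mem_C1.1 hx))⟩ (by rwa [orderOf_coe]) y
    (mem_C1.2 (congrArg Subtype.val (mem_C1.1 hy))) (congrArg Subtype.val hi)
  rw [← bas_map_C1, Oc, ← map_ppCoreOf_of_injective _ M.subtype_injective] at h1
  exact (mem_map_iff_mem M.subtype_injective).1 h1

theorem AK.aa (h : AK M) {H : Type*} [Group H] (e : M ≃* H) : ∃ A, AA H A := by
  have := h.normal
  let φ : G →* MulAut H := (MulAut.congr e).toMonoidHom.comp MulAut.conjNormal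
  have hφ : ∀ (g : G) (m : M), φ g (e m) = e (MulAut.conjNormal g m) := fun g m => by
    simp [φ, MulAut.congr]
  have hφ' : ∀ (g : G) (m m' : M), φ g (e m) = e m' ↔ g * m * g⁻¹ = m' := fun g m m' => by
    rw [hφ, e.injective.eq_iff, Subtype.ext_iff, MulAut.conjNormal_apply]
  refine ⟨Set.range φ, fun m => ?_, ?_⟩
  · obtain ⟨m, rfl⟩ := e.surjective m
    refine ⟨m, MulEquiv.ext fun x => ?_⟩
    obtain ⟨x, rfl⟩ := e.surjective x
    rw [MulAut.conj_apply, ← map_inv, ← map_mul, ← map_mul, hφ']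
    rfl
  rintro x x1 ho _ ⟨y, rfl⟩ h2 hy
  obtain ⟨x, rfl⟩ := e.surjective x
  obtain ⟨n, h3, h4⟩ := exists_tw_lift φ h2
  rw [← h4, ← map_inv, hφ'] at hy
  obtain ⟨j, hj, h5, h6⟩ := h.key x x.2 (fun k => x1 (by rw [show x = 1 from Subtype.ext k, map_one]))
    (by rwa [orderOf_coe, ← e.orderOf_eq]) _ h3 hy
  have hN : Oc (M ⊓ C1 j) ≤ M := Oc_le.trans inf_le_left
  refine ⟨φ j, ⟨j, rfl⟩, by rw [← map_mul, ← pow_two, ← hj, pow_orderOf_eq_one, map_one],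
    fun k => h.noCent j hj fun m hm => ?_, ?_, by rw [← h4, ← map_mul, ← map_mul, mem_C1.1 h5],
    ((Oc (M ⊓ C1 j)).subgroupOf M).map (e : M →* H), ?_, ⟨x, h6, rfl⟩, ?_⟩
  · have := (hφ' j ⟨m, hm⟩ ⟨m, hm⟩).1 (by rw [k]; rfl)
    exact mem_C1.2 (mul_inv_eq_iff_eq_mul.1 this).symm
  · exact (hφ' j x x).2 (mul_inv_eq_iff_eq_mul.2 (mem_C1.1 (Oc_le h6).2).symm)
  · rw [card_map_of_injective e.injective, Nat.card_congr (subgroupOfEquivOfLe hN).toEquiv]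
    exact odd_card_Oc
  · rintro m hm _ ⟨n, hn, rfl⟩
    obtain ⟨m, rfl⟩ := e.surjective m
    have h7 : (m : G) ∈ M ⊓ C1 j :=
      ⟨m.2, mem_C1.2 (mul_inv_eq_iff_eq_mul.1 ((hφ' j m m).1 hm)).symm⟩
    refine ⟨m * n * m⁻¹, (mem_normalizer_iff.1 (le_Ns_Oc_self h7) n).1 hn, ?_⟩
    simp

end Cfsg.Lib.RC2
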