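import Cfsg.Agent.Gold.Cm
import Cfsg.Agent.Local.AmalgamCharP
import Cfsg.Agent.Local.CharP
import Cfsg.Agent.Solv.RealElements

/-!
# Real classes with equal 2-parts (S3860): definitions
-/

set_option autoImplicit false

namespace Cfsg.Lib.RC2

open Subgroup Cfsg.Lib.Gold Cfsg.Lib.Trans

variable {G : Type*} [Group G]

/-- `y` is a 2-element. -/
def Tw (y : G) : Prop := ∃ k : ℕ, y ^ 2 ^ k = 1

/-- The centraliser of a Sylow 2-subgroup of the centraliser of a real element of odd order is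
2-nilpotent. -/
def HX (G : Type*) [Group G] : Prop :=
  ∀ x : G, x ≠ 1 → Odd (orderOf x) → ∀ y : G, y * x * y⁻¹ = x⁻¹ →
    ∀ T : Subgroup G, IsSylowIn 2 T (C1 x) → ∀ g ∈ Cs T, Odd (orderOf g) → g ∈ Oc (Cs T)

/-- `C(U) / O(C(U))` has a nontrivial element of odd order inverted in `N(U)`. -/
def PP (U : Subgroup G) : Prop :=
  ∃ x ∈ Cs U, Odd (orderOf x) ∧ x ∉ Oc (Cs U) ∧ ∃ y ∈ Ns U, y * x * y⁻¹ * x ∈ Oc (Cs U)

/-- The local situation: `G = N(U)`, no larger 2-subgroup has the property `PP`. -/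
structure LS (U : Subgroup G) : Prop where
  normal : U.Normal
  two : IsPGroup 2 U
  hn : ∀ x ∈ Cs U, Odd (orderOf x) → ∀ y : G, y * x * y⁻¹ = x⁻¹ → IsSylowIn 2 U (C1 x) →
    x ∈ Oc (Cs U)
  hmax : ∀ U' : Subgroup G, IsPGroup 2 U' → U < U' → ¬ PP U'

/-- The lifts of odd order of `a` in `C(U)`. -/
def Om {X : Type*} [Group X] (U : Subgroup G) (π : G →* X) (a : X) : Set G :=
  {x | x ∈ Cs U ∧ Odd (orderOf x) ∧ π x = a}

/-- Facts about the quotient map with kernel `U O(C(U))`. -/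
structure LF {X : Type*} [Group X] (U : Subgroup G) (π : G →* X) : Prop where
  surj : Function.Surjective π
  ker : π.ker = U ⊔ Oc (Cs U)
  card : ∀ a ∈ (Cs U).map π, Odd (orderOf a) → Odd (Nat.card (Om U π a))
  lift : ∀ a ∈ (Cs U).map π, Odd (orderOf a) → ∃ x, x ∈ Om U π a
  uniq : ∀ a : X, ∀ x ∈ Om U π a, ∀ x' ∈ Om U π a, x * x'⁻¹ ∈ Oc (Cs U)
  two : ∀ g : G, π g = 1 → Tw g → g ∈ U

/-- The situation after passing to the quotient. -/
structure BS (G1 : Subgroup G) : Prop where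
  normal : G1.Normal
  h0 : ∀ x ∈ G1, x ≠ 1 → Odd (orderOf x) → ∀ y : G, y * x * y⁻¹ = x⁻¹ → Even (Nat.card (C1 x))
  hs : ∀ J : Subgroup G, IsPGroup 2 J → J ≠ ⊥ → ∀ x ∈ G1 ⊓ Cs J, Odd (orderOf x) →
    ∀ y ∈ Ns J, y * x * y⁻¹ = x⁻¹ → x ∈ Oc (G1 ⊓ Cs J)
  o1 : Oc G1 = ⊥

/-- The almost simple situation. -/
structure AS (M : Subgroup G) : Prop where
  normal : M.Normal
  simple : IsSimpleGroup M
  noncomm : ¬ IsMulCommutative M
  h0 : ∀ x ∈ M, x ≠ 1 → Odd (orderOf x) → ∀ y : G, y * x * y⁻¹ = x⁻¹ → Even (Nat.card (C1 x))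
  hs : ∀ j : G, orderOf j = 2 → ∀ x ∈ M ⊓ C1 j, Odd (orderOf x) →
    ∀ y ∈ C1 j, y * x * y⁻¹ = x⁻¹ → x ∈ Oc (M ⊓ C1 j)

/-- The working form of `AS`. -/
structure AK (M : Subgroup G) : Prop where
  normal : M.Normal
  simple : IsSimpleGroup M
  noncomm : ¬ IsMulCommutative M
  key : ∀ x ∈ M, x ≠ 1 → Odd (orderOf x) → ∀ y : G, Tw y → y * x * y⁻¹ = x⁻¹ →
    ∃ j : G, orderOf j = 2 ∧ y ∈ C1 j ∧ x ∈ Oc (M ⊓ C1 j)
  noCent : ∀ j : G, orderOf j = 2 → ¬ M ≤ C1 j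
  real : ∃ x ∈ M, x ≠ 1 ∧ Odd (orderOf x) ∧ ∃ t ∈ M, Tw t ∧ t * x * t⁻¹ = x⁻¹

/-- Real elements of odd order of the centraliser of an involution lie in its core. -/
def IN (H : Type*) [Group H] : Prop :=
  ∀ e : H, orderOf e = 2 → ∀ x ∈ C1 e, Odd (orderOf x) → ∀ y ∈ C1 e, y * x * y⁻¹ = x⁻¹ →
    x ∈ Oc (C1 e)

/-- Centralisers of involutions have characteristic 2. -/
def CT (H : Type*) [Group H] : Prop := ∀ e : H, orderOf e = 2 → Local.CharP 2 (C1 e)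

/-- Real elements of odd order have centralisers of odd order. -/
def OC (H : Type*) [Group H] : Prop :=
  ∀ x : H, x ≠ 1 → Odd (orderOf x) → ∀ y : H, y * x * y⁻¹ = x⁻¹ → Odd (Nat.card (C1 x))

/-- The order of `Ω₁(Z(P))`. -/
noncomputable def oz (P : Type*) [Group P] : ℕ :=
  Nat.card {z : P // z * z = 1 ∧ ∀ y : P, y * z = z * y}

/-- The hypothesis in terms of a set of automorphisms of `H`. -/
structure AA (H : Type*) [Group H] (A : Set (MulAut H)) : Prop where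
  inn : ∀ m : H, MulAut.conj m ∈ A
  key : ∀ x : H, x ≠ 1 → Odd (orderOf x) → ∀ y ∈ A, Tw y → y x = x⁻¹ →
    ∃ β ∈ A, β * β = 1 ∧ β ≠ 1 ∧ β x = x ∧ β * y = y * β ∧
      ∃ N : Subgroup H, Odd (Nat.card N) ∧ x ∈ N ∧ ∀ m : H, β m = m → ∀ n ∈ N, m * n * m⁻¹ ∈ N

/-- The numerical data of `U₃(4)` (`p = 3`) and `L₃(4)` (`p = 5`). -/
structure Sm (H : Type*) [Group H] (p : ℕ) : Prop where
  prime : p.Prime
  ne_two : p ≠ 2
  sq : ¬ p ^ 2 ∣ Nat.card H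
  sixteen : 16 ∣ Nat.card H
  exp : ∀ s : H, Tw s → s ^ 4 = 1
  elt : ∃ x t : H, orderOf x = p ∧ t * x * t⁻¹ = x⁻¹ ∧ ¬ 4 ∣ Nat.card (Ns (zpowers x))

theorem Tw.isPGroup {y : G} (h : Tw y) : IsPGroup 2 (zpowers y) := by
  obtain ⟨k, hk⟩ := h
  rintro ⟨_, n, rfl⟩
  refine ⟨k, Subtype.ext ?_⟩
  change (y ^ n) ^ 2 ^ k = 1
  rw [← zpow_natCast, ← zpow_mul, mul_comm, zpow_mul, zpow_natCast, hk, one_zpow]

theorem tw_of_mem {P : Subgroup G} (hP : IsPGroup 2 P) {y : G} (hy : y ∈ P) : Tw y := by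
  obtain ⟨k, hk⟩ := hP ⟨y, hy⟩
  exact ⟨k, congrArg Subtype.val hk⟩

theorem tw_of_orderOf {y : G} {k : ℕ} (h : orderOf y = 2 ^ k) : Tw y :=
  ⟨k, h ▸ pow_orderOf_eq_one y⟩

theorem tw_of_sq {y : G} (h : y * y = 1) : Tw y := ⟨1, by rw [pow_one, pow_two, h]⟩

theorem Tw.map {H : Type*} [Group H] (f : G →* H) {y : G} (h : Tw y) : Tw (f y) :=
  h.imp fun k hk => by rw [← map_pow, hk, map_one]

theorem Tw.eq_one {y : G} (h : Tw y) (ho : Odd (orderOf y)) : y = 1 := by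
  obtain ⟨k, hk⟩ := h
  exact orderOf_eq_one_iff.1 (Nat.eq_one_of_dvd_coprimes
    ((Nat.coprime_two_left.2 ho).pow_left k) (orderOf_dvd_of_pow_eq_one hk) dvd_rfl)

/-- An odd power of `y` is a 2-element. -/
theorem exists_odd_pow_tw [Finite G] (y : G) : ∃ m : ℕ, Odd m ∧ Tw (y ^ m) := by
  obtain ⟨j, b, hb, hjb⟩ := Nat.exists_eq_two_pow_mul_odd (orderOf_pos y).ne'
  exact ⟨b, hb, j, by rw [← pow_mul, mul_comm, ← hjb, pow_orderOf_eq_one]⟩

/-- An element inverted by `y` is inverted by a 2-element which is an odd power of `y`. -/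
theorem exists_tw_inverts [Finite G] {x y : G} (h : y * x * y⁻¹ = x⁻¹) :
    ∃ m : ℕ, Odd m ∧ Tw (y ^ m) ∧ y ^ m * x * (y ^ m)⁻¹ = x⁻¹ := by
  obtain ⟨m, hm, h2⟩ := exists_odd_pow_tw y
  exact ⟨m, hm, h2, Solv.Real.conj_pow_odd_of_inverts h hm⟩

/-- A 2-element of the image is the image of a 2-element. -/
theorem exists_tw_lift [Finite G] {H : Type*} [Group H] (f : G →* H) {y : G} (h : Tw (f y)) :
    ∃ n : ℕ, Tw (y ^ n) ∧ f (y ^ n) = f y := by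
  obtain ⟨m, hm, j, hj⟩ := exists_odd_pow_tw y
  obtain ⟨k, hk⟩ := h
  have hc : m.Coprime (2 ^ (k + 1)) := (Nat.coprime_two_right.2 hm).pow_right _
  obtain ⟨n, -, hn⟩ := Nat.exists_mul_mod_eq_one_of_coprime hc
    (Nat.one_lt_two_pow (Nat.succ_ne_zero k))
  refine ⟨m * n, ⟨j, by rw [pow_mul, ← pow_mul _ n, mul_comm n, pow_mul, hj, one_pow]⟩, ?_⟩
  have h1 : f y ^ 2 ^ (k + 1) = 1 := by rw [pow_succ, pow_mul, hk, one_pow]
  rw [map_pow, pow_eq_pow_mod _ h1, hn, pow_one]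

/-- A 2-element normalising a subgroup of even order centralises one of its involutions. -/
theorem exists_inv_comm [Finite G] {A : Subgroup G} (hA : Even (Nat.card A)) {y : G}
    (hy : y ∈ Ns A) (h2 : Tw y) : ∃ j ∈ A, orderOf j = 2 ∧ y ∈ C1 j := by
  have : Fact (Nat.Prime 2) := ⟨Nat.prime_two⟩
  obtain ⟨T, hT, hyT⟩ := exists_isSylowIn_ge (p := 2) (H := Ns A) h2.isPGroup (zpowers_le.2 hy)
  have h1 := hT.inf_normal_of_le le_rfl le_normalizer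
  have h3 : T ⊓ A ≠ ⊥ := fun e => h1.eq_bot_iff.1 e hA.two_dvd
  obtain ⟨j, hj, j1, j2, j3⟩ := Local.Amal.exists_central_of_normalized hT.isPGroup inf_le_left
    (fun t ht x hx => ⟨T.mul_mem (T.mul_mem ht hx.1) (T.inv_mem ht),
      (mem_normalizer_iff.1 (hT.le ht) x).1 hx.2⟩) h3
  exact ⟨j, hj.2, orderOf_eq_prime j2 j1, mem_C1.2 (j3 y (hyT (mem_zpowers y)))⟩

theorem mem_Ns_C1_of_inverts {x y : G} (h : y * x * y⁻¹ = x⁻¹) : y ∈ Ns (C1 x) :=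
  Solv.Real.mem_normalizer_cent_of_inverts h

/-- If `C(x)` has even order and the 2-element `y` inverts `x`, some involution centralises
both. -/
theorem exists_inv_comm' [Finite G] {x y : G} (hA : Even (Nat.card (C1 x))) (h2 : Tw y)
    (h : y * x * y⁻¹ = x⁻¹) : ∃ j : G, orderOf j = 2 ∧ x ∈ C1 j ∧ y ∈ C1 j := by
  obtain ⟨j, hj, h3, h4⟩ := exists_inv_comm hA (mem_Ns_C1_of_inverts h) h2
  exact ⟨j, h3, mem_C1.2 (mem_C1.1 hj).symm, h4⟩

theorem eq_one_of_inverts_of_comm {x y : G} (ho : Odd (orderOf x)) (h : y * x * y⁻¹ = x⁻¹)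
    (hc : y * x = x * y) : x = 1 := by
  rw [hc, mul_inv_cancel_right] at h
  exact eq_one_of_sq_of_odd (mul_eq_one_iff_eq_inv.2 h) ho

end Cfsg.Lib.RC2
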