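import Cfsg.Agent.RC2.Defs

/-!
# Real classes with equal 2-parts (S3860): the property of 2-local centralisers in the quotient
-/

set_option autoImplicit false

namespace Cfsg.Lib.RC2

open Subgroup Cfsg.Lib.Gold Cfsg.Lib.Trans

variable {G : Type*} [Group G] [Finite G]

private theorem hs_pure {Y C : Subgroup G} (hY : Y ≤ C)
    (h : ∀ c ∈ C, Odd (orderOf c) → c ∈ Y) : Oc Y ≤ Oc C := by
  set E : Subgroup G := closure {c | c ∈ C ∧ Odd (orderOf c)} with hE
  have hEY : E ≤ Y := (closure_le _).2 fun c hc => h c hc.1 hc.2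
  have hCE : C ≤ Ns E := by
    intro g hg
    refine mem_normalizer_fintype fun n hn => ?_
    change g * n * g⁻¹ ∈ E
    induction hn using closure_induction with
    | mem x hx =>
      refine subset_closure ⟨C.mul_mem (C.mul_mem hg hx.1) (C.inv_mem hg), ?_⟩
      have : orderOf (g * x * g⁻¹) = orderOf x := by
        simpa using orderOf_injective (MulAut.conj g).toMonoidHom (MulAut.conj g).injective x
      rw [this]; exact hx.2
    | one => simpa using E.one_mem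
    | mul x y _ _ hx hy =>
      have := E.mul_mem hx hy
      rwa [conj_mul'] at this
    | inv x _ hx =>
      have := E.inv_mem hx
      rwa [conj_inv'] at this
  have h1 : Oc Y ≤ E := fun x hx =>
    subset_closure ⟨hY (Oc_le hx), odd_orderOf_of_mem hx odd_card_Oc⟩
  have h2 : Oc Y ≤ Oc E := le_trans (le_inf le_rfl h1) (Oc_inf_le hEY)
  exact h2.trans (le_Oc_of_le_Ns (Oc_le.trans (hEY.trans hY)) (le_Ns_Oc hCE) odd_card_Oc)

variable {X : Type*} [Group X] [Finite X] {U : Subgroup G} {π : G →* X}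

omit [Finite G] [Finite X] in
private theorem hs_conj (hU : U.Normal) {a : X} {x : G} (hx : x ∈ Om U π a) (g : G) :
    g * x * g⁻¹ ∈ Om U π (π g * a * (π g)⁻¹) := by
  refine ⟨?_, ?_, ?_⟩
  · have : g ∈ Ns (Cs U) := mem_Ns_Cs ((normalizer_eq_top U).symm ▸ mem_top g : g ∈ normalizer (U : Set G))
    exact (mem_normalizer_iff.1 this x).1 hx.1
  · have : orderOf (g * x * g⁻¹) = orderOf x := by
      simpa using orderOf_injective (MulAut.conj g).toMonoidHom (MulAut.conj g).injective x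
    rw [this]; exact hx.2.1
  · rw [map_mul, map_mul, map_inv, hx.2.2]

omit [Finite X] in
private theorem hs_lift (hU : U.Normal) (f : LF U π) {J : Subgroup X} {U' : Subgroup G}
    (h2 : IsPGroup 2 U') (hJ : ∀ u ∈ U', π u ∈ J) {a : X} (ha : a ∈ (Cs U).map π ⊓ Cs J)
    (ho : Odd (orderOf a)) : ∃ x ∈ Om U π a, x ∈ Cs U' := by
  have : Fact (Nat.Prime 2) := ⟨Nat.prime_two⟩
  have hmem : ∀ u : U', ∀ x ∈ Om U π a, (u : G) * x * (u : G)⁻¹ ∈ Om U π a := by
    intro u x hx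
    have h1 := hs_conj hU hx (u : G)
    rwa [mem_Cs.1 ha.2 _ (hJ _ u.2), mul_inv_cancel_right] at h1
  letI : MulAction U' (Om U π a) :=
    { smul := fun u x => ⟨(u : G) * x * (u : G)⁻¹, hmem u x x.2⟩
      one_smul := fun x => Subtype.ext (by
        change ((1 : U') : G) * x * ((1 : U') : G)⁻¹ = x
        simp)
      mul_smul := fun u v x => Subtype.ext (by
        change ((u * v : U') : G) * x * ((u * v : U') : G)⁻¹ =
          (u : G) * ((v : G) * x * (v : G)⁻¹) * (u : G)⁻¹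
        simp [mul_assoc]) }
  obtain ⟨x, hx⟩ := h2.nonempty_fixed_point_of_prime_not_dvd_card (Om U π a)
    (by rw [← even_iff_two_dvd, Nat.not_even_iff_odd]; exact f.card a ha.1 ho)
  refine ⟨x, x.2, mem_Cs.2 fun u hu => ?_⟩
  have h3 : u * (x : G) * u⁻¹ = x := congrArg Subtype.val (hx ⟨u, hu⟩)
  rwa [mul_inv_eq_iff_eq_mul] at h3

theorem bs_hs (h : LS U) (f : LF U π) : ∀ J : Subgroup X, IsPGroup 2 J → J ≠ ⊥ →
    ∀ x ∈ (Cs U).map π ⊓ Cs J, Odd (orderOf x) → ∀ y ∈ Ns J, y * x * y⁻¹ = x⁻¹ →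
      x ∈ Oc ((Cs U).map π ⊓ Cs J) := by
  intro J hJ hJ1 a ha ho b hb hab
  have : Fact (Nat.Prime 2) := ⟨Nat.prime_two⟩
  have hUk : U ≤ π.ker := f.ker ▸ le_sup_left
  have hUJ : U ≤ J.comap π := fun u hu => by
    rw [mem_comap, (MonoidHom.mem_ker).1 (hUk hu)]; exact J.one_mem
  obtain ⟨U', hU', hUU'⟩ := exists_isSylowIn_ge (p := 2) h.two hUJ
  have hmap : U'.map π = J := by
    have h1 := hU'.map π
    rw [map_comap_eq_self_of_surjective f.surj] at h1
    exact (h1.eq_of_le hJ h1.le le_rfl).symm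
  have hlt : U < U' := lt_of_le_of_ne hUU' fun e => hJ1 (by
    rw [← hmap, ← e, Subgroup.map_eq_bot_iff]; exact hUk)
  have hP : ¬ PP U' := h.hmax U' hU'.isPGroup hlt
  have hJ' : ∀ u ∈ U', π u ∈ J := fun u hu => hU'.le hu
  have hK : Cs U' ≤ Cs U := Cs_anti hUU'
  -- the subgroup `Y`
  have hYC : (Cs U').map π ≤ (Cs U).map π ⊓ Cs J := by
    refine le_inf (map_mono hK) ?_
    rintro _ ⟨c, hc, rfl⟩
    refine mem_Cs.2 fun j hj => ?_
    rw [← hmap] at hj
    obtain ⟨u, hu, rfl⟩ := hj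
    rw [← map_mul, ← map_mul, mem_Cs.1 hc u hu]
  refine hs_pure hYC (fun c hc hco => ?_) ?_
  · obtain ⟨x, hx, hx'⟩ := hs_lift h.normal f hU'.isPGroup hJ' hc hco
    exact ⟨x, hx', hx.2.2⟩
  obtain ⟨x, hx, hx'⟩ := hs_lift h.normal f hU'.isPGroup hJ' ha ho
  obtain ⟨y0, rfl⟩ := f.surj b
  have hy0 : y0 ∈ Ns (J.comap π) := by
    refine mem_normalizer_iff.2 fun g => ?_
    rw [mem_comap, mem_comap, map_mul, map_mul, map_inv]
    exact mem_normalizer_iff.1 hb (π g)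
  obtain ⟨y, hy, d, hd, rfl⟩ := hU'.frattini' hy0
  have hya : π y * a * (π y)⁻¹ = a⁻¹ := by
    have h1 : π d * a = a * π d := mem_Cs.1 ha.2 _ hd
    rw [map_mul, mul_inv_rev, mul_assoc (π y), h1] at hab
    rw [← hab]; group
  have h1 : y * x * y⁻¹ ∈ Om U π a⁻¹ := hya ▸ hs_conj h.normal hx y
  have h2 : x⁻¹ ∈ Om U π a⁻¹ :=
    ⟨inv_mem hx.1, by rw [orderOf_inv]; exact hx.2.1, by rw [map_inv, hx.2.2]⟩
  have h3 := f.uniq _ _ h1 _ h2
  rw [inv_inv] at h3
  have h4 : y * x * y⁻¹ * x ∈ Cs U' :=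
    mul_mem ((mem_normalizer_iff.1 (mem_Ns_Cs hy) x).1 hx') hx'
  have h5 : y * x * y⁻¹ * x ∈ Oc (Cs U') := Oc_inf_le hK ⟨h3, h4⟩
  have h6 : x ∈ Oc (Cs U') := by
    by_contra hn
    exact hP ⟨x, hx', hx.2.1, hn, y, hy, h5⟩
  exact map_ppCoreOf_le π _ ⟨x, h6, hx.2.2⟩

end Cfsg.Lib.RC2
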