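import Cfsg.Agent.RC2.Defs

/-!
# Real classes with equal 2-parts (S3860): centralisers of real elements of the quotient
-/

set_option autoImplicit false

namespace Cfsg.Lib.RC2

open Subgroup Cfsg.Lib.Gold Cfsg.Lib.Trans

variable {G : Type*} [Group G] [Finite G]

variable {X : Type*} [Group X] [Finite X] {U : Subgroup G} {π : G →* X}

theorem bs_h0 (h : LS U) (f : LF U π) : ∀ x ∈ (Cs U).map π, x ≠ 1 → Odd (orderOf x) →
    ∀ y : X, y * x * y⁻¹ = x⁻¹ → Even (Nat.card (C1 x)) := by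
  intro a ha a1 ho b hb
  have : Fact (Nat.Prime 2) := ⟨Nat.prime_two⟩
  have := h.normal
  by_contra hc
  rw [Nat.not_even_iff_odd] at hc
  obtain ⟨m, -, h2, hb⟩ := exists_tw_inverts hb
  obtain ⟨y, e⟩ := f.surj (b ^ m)
  rw [← e] at h2 hb
  obtain ⟨n, y2, e⟩ := exists_tw_lift π h2
  rw [← e] at hb
  generalize y ^ n = y at hb y2
  have k : ∀ g, Tw g → π g ∈ C1 a → g ∈ U := fun g hg hm =>
    f.two g ((hg.map π).eq_one (odd_orderOf_of_mem hm hc)) hg
  have h3 : y * y ∈ U := k _ (y2.imp fun k hk => by rw [(Commute.refl y).mul_pow, hk, one_mul])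
    (mem_C1.2 (mul_inv_eq_iff_eq_mul.1 (by
      rw [map_mul, show π y * π y * a * (π y * π y)⁻¹ = π y * (π y * a * (π y)⁻¹) * (π y)⁻¹ by group,
        hb, ← conj_inv', hb, inv_inv])))
  have hN : y ∈ Ns (Cs U) := mem_Ns_Cs ((normalizer_eq_top U).ge trivial)
  have m1 : ∀ x ∈ Om U π a, (y * x * y⁻¹)⁻¹ ∈ Om U π a := fun x hx =>
    ⟨inv_mem ((mem_normalizer_iff.1 hN x).1 hx.1), by
      rw [orderOf_inv, show orderOf (y * x * y⁻¹) = orderOf x from (MulAut.conj y).orderOf_eq x]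
      exact hx.2.1, by rw [map_inv, map_mul, map_mul, map_inv, hx.2.2, hb, inv_inv]⟩
  have i1 : Function.Involutive fun x : Om U π a => (⟨_, m1 x x.2⟩ : Om U π a) := fun x =>
    Subtype.ext (by
      change (y * (y * x * y⁻¹)⁻¹ * y⁻¹)⁻¹ = x
      calc _ = y * y * x * (y * y)⁻¹ := by simp [mul_assoc]
        _ = _ := by rw [mem_Cs.1 x.2.1 _ h3, mul_inv_cancel_right])
  have := Fintype.ofFinite (Om U π a)
  obtain ⟨x, hx⟩ := Equiv.Perm.exists_fixed_point_of_prime (p := 2) (n := 1) (σ := i1.toPerm)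
    (by rw [← Nat.card_eq_fintype_card, ← even_iff_two_dvd, Nat.not_even_iff_odd]; exact f.card a ha ho)
    (Equiv.ext i1)
  have e1 : y * x * y⁻¹ = (x : G)⁻¹ := inv_eq_iff_eq_inv.1 (congrArg Subtype.val hx)
  have h4 := h.hn x x.2.1 x.2.2.1 y e1 (isSylowIn_of_maximal
    (fun u hu => mem_C1.2 (mem_Cs.1 x.2.1 u hu)) h.two fun Q hQ _ hle g hg =>
      k g (tw_of_mem hQ hg) (mem_C1.2 (by rw [← x.2.2.2, ← map_mul, mem_C1.1 (hle hg), map_mul])))
  exact a1 (x.2.2.2.symm.trans (f.ker.ge (mem_sup_right h4)))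

end Cfsg.Lib.RC2
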