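import Cfsg.Agent.RC2.Defs
import Cfsg.Agent.RealDisc.Basic
import Cfsg.Agent.Trans.Component
import Cfsg.Prelude.Def_CaseTheorems

/-!
# Real classes with equal 2-parts: consequences of `IN`
-/

set_option autoImplicit false

namespace Cfsg.Lib.RC2

open Subgroup Cfsg.Lib.Gold Cfsg.Lib.Trans Cfsg.Lib.RealDisc

variable {G : Type*} [Group G] [Finite G]

omit [Finite G] in
private theorem inner_mem (h : IN G) {e : G} (he : orderOf e = 2) {x : C1 e} (hx : RO x) :
    (x : G) ∈ Oc (C1 e) := by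
  obtain ⟨y, hy⟩ := isConj_iff.1 hx.2
  exact h e he x x.2 (by rw [orderOf_coe]; exact hx.odd) y y.2 (congrArg Subtype.val hy)

private theorem inner_noR (h : IN G) {e : G} (he : orderOf e = 2) :
    NoR (C1 e ⧸ oddCore (C1 e)) := fun a ha => by
  obtain ⟨x, rfl, hx⟩ := ha.lift (QuotientGroup.mk' (oddCore (C1 e))) (QuotientGroup.mk'_surjective _)
  obtain ⟨z, hz, e⟩ := inner_mem h he hx
  exact (QuotientGroup.eq_one_iff x).2 (Subtype.ext e ▸ hz)

private theorem inner_oc (c : CT G) {e : G} (he : orderOf e = 2) : Oc (C1 e) = ⊥ := by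
  have h2 : IsPGroup 2 (pCoreOf 2 (C1 e)) := Local.isPGroup_pCoreOf _
  have hb := inf_eq_bot_of_odd h2 (odd_card_Oc (L := C1 e))
  refine eq_bot_iff.2 fun x hx => hb.le (mem_inf.2 ⟨c e he (mem_inf.2 ⟨Oc_le hx,
    mem_centralizer_iff.2 fun r hr => ?_⟩), hx⟩)
  refine mul_inv_eq_iff_eq_mul.1 (mul_inv_eq_one.1 (mem_bot.1 (hb.le (mem_inf.2 ⟨?_, ?_⟩))))
  · have := mul_mem hr ((mem_normalizer_iff.1 (Local.le_normalizer_pCoreOf _ (Oc_le hx)) _).1
      (inv_mem hr))
    simpa only [mul_assoc] using this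
  · exact mul_mem (mem_normalizer_conj (le_Ns_Oc_self (Local.pCoreOf_le _ hr)) hx) (inv_mem hx)

theorem IN.normal (h : IN G) {e : G} (he : orderOf e = 2)
    (P : Sylow 2 (C1 e ⧸ oddCore (C1 e))) : (P : Subgroup (C1 e ⧸ oddCore (C1 e))).Normal :=
  (inner_noR h he).normal P

theorem IN.not_comp (h : IN G) : ¬ IsComponentType G := by
  rintro ⟨e, he, K, hK⟩
  have := (inner_noR h he).solvable
  exact IsComponent.not_le_of_isSolvable (H := ⊤) hK inferInstance le_top

theorem IN.oc (h : IN G) (c : CT G) : OC G := fun x x1 ho y hy => by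
  by_contra hn
  obtain ⟨m, -, h2, hy⟩ := exists_tw_inverts hy
  obtain ⟨e, he, xe, ye⟩ := exists_inv_comm' (Nat.not_odd_iff_even.1 hn) h2 hy
  exact x1 (mem_bot.1 ((inner_oc c he).le (h e he x xe ho _ ye hy)))

theorem IN.closed (h : IN G) (c : CT G) {e : G} (he : orderOf e = 2) {S : Subgroup G}
    (hS : IsSylowIn 2 S (C1 e)) : C1 e ≤ Ns S := by
  have : Fact (Nat.Prime 2) := ⟨Nat.prime_two⟩
  have hn : NoR (C1 e) := fun x hx =>
    Subtype.ext (mem_bot.1 ((inner_oc c he).le (inner_mem h he hx)))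
  exact (normal_subgroupOf_iff_le_normalizer hS.le).1 (hn.normal hS.toSylow)

end Cfsg.Lib.RC2
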