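import Cfsg.Agent.RC2.Defs
import Cfsg.Agent.S0243
import Cfsg.Agent.S0819
import Cfsg.Agent.AB.L34Syl
import Cfsg.Agent.Known.SylowCount

/-!
# Real classes with equal 2-parts: the numerical data of `L₃(4)`
-/

set_option autoImplicit false

namespace Cfsg.Lib.RC2

open Subgroup Cfsg.Lib.Gold Cfsg.Lib.Trans Matrix

variable {G : Type*} [Group G] [Finite G] {F : Type*} [Field F] [Fintype F]

namespace LSmAux

theorem card_psl (hF : Fintype.card F = 4) :
    Nat.card (ProjectiveSpecialLinearGroup (Fin 3) F) = 20160 := by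
  have h := Cfsg.Agent.S0243.result hF 3 (by norm_num)
  simp only [Fin.prod_univ_three] at h
  norm_num at h
  omega

theorem charP_two (hF : Fintype.card F = 4) : CharP F 2 := by
  obtain ⟨p, hp⟩ := CharP.exists F
  obtain ⟨n, hpp, hn⟩ := FiniteField.card F p
  have h2 : p ∣ 2 ^ 2 := by
    rw [show (2 : ℕ) ^ 2 = 4 by norm_num, ← hF, hn]
    exact dvd_pow_self p n.ne_zero
  have := (Nat.prime_dvd_prime_iff_eq hpp Nat.prime_two).1 (hpp.dvd_of_dvd_pow h2)
  subst this
  exact hp

theorem exp_psl (hF : Fintype.card F = 4) (s : ProjectiveSpecialLinearGroup (Fin 3) F)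
    (hs : Tw s) : s ^ 4 = 1 := by
  have := charP_two hF
  obtain ⟨P, hP⟩ := hs.isPGroup.exists_le_sylow
  obtain ⟨u, h, hS⟩ := Gomi.exists_hs
    (S := (P : Subgroup (ProjectiveSpecialLinearGroup (Fin 3) F))) P (MulEquiv.refl _)
  have hm : s ∈ h.S := hS ▸ hP (mem_zpowers s)
  obtain ⟨a, b, c, rfl⟩ := h.mem_S.1 hm
  rw [show (4 : ℕ) = 2 * 2 from rfl, pow_mul, pow_two (u a b c), h.sq, pow_two, h.sq, zero_mul,
    h.one]

omit [Finite G] in
theorem exists_inv {x g : G} (hx : orderOf x = 5) (hg : g ∈ Ns (zpowers x))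
    (hc : g ∉ centralizer ({x} : Set G)) : ∃ t : G, t * x * t⁻¹ = x⁻¹ := by
  have hx5 : x ^ 5 = 1 := hx ▸ pow_orderOf_eq_one x
  have hfin : IsOfFinOrder x := by
    rw [← orderOf_pos_iff, hx]; norm_num
  have hm : g * x * g⁻¹ ∈ zpowers x := (mem_normalizer_iff.1 hg x).1 (mem_zpowers x)
  rw [← hfin.mem_powers_iff_mem_zpowers] at hm
  obtain ⟨k, hk⟩ := hm
  have hk' : x ^ (k % 5) = g * x * g⁻¹ := by rw [← hk, ← hx, pow_mod_orderOf]
  have hlt : k % 5 < 5 := Nat.mod_lt _ (by norm_num)
  have hsq : ∀ j : ℕ, x ^ j = g * x * g⁻¹ → (g * g) * x * (g * g)⁻¹ = x ^ (j * j) := by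
    intro j hj
    calc (g * g) * x * (g * g)⁻¹ = g * (g * x * g⁻¹) * g⁻¹ := by group
      _ = g * x ^ j * g⁻¹ := by rw [hj]
      _ = (g * x * g⁻¹) ^ j := by rw [conj_pow]
      _ = x ^ (j * j) := by rw [← hj, ← pow_mul]
  have h4 : x ^ 4 = x⁻¹ := by
    rw [eq_inv_iff_mul_eq_one, ← pow_succ, hx5]
  generalize k % 5 = j at hk' hlt
  interval_cases j
  · exfalso
    have : x = 1 := by
      have h1 : g * x * g⁻¹ = 1 := by rw [← hk', pow_zero]
      simpa using h1
    rw [this, orderOf_one] at hx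
    omega
  · exfalso
    apply hc
    rw [mem_centralizer_singleton_iff]
    rw [pow_one] at hk'
    calc g * x = g * x * g⁻¹ * g := by group
      _ = x * g := by rw [← hk']
  · exact ⟨g * g, by rw [hsq 2 hk', h4]⟩
  · refine ⟨g * g, ?_⟩
    rw [hsq 3 hk', show 3 * 3 = 5 + 4 from rfl, pow_add, hx5, one_mul, h4]
  · exact ⟨g, by rw [← hk', h4]⟩

end LSmAux

open LSmAux Cfsg.Lib.Known in
theorem l34_sm [IsSimpleGroup G] (h : OC G) (hF : Fintype.card F = 4)
    (e : G ≃* ProjectiveSpecialLinearGroup (Fin 3) F) : Sm G 5 := by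
  have hG : Nat.card G = 20160 := by rw [Nat.card_congr e.toEquiv, card_psl hF]
  refine ⟨by norm_num, by norm_num, by rw [hG]; norm_num, by rw [hG]; norm_num, ?_, ?_⟩
  · intro s hs
    have := exp_psl hF (e s) (hs.map e.toMonoidHom)
    rwa [← map_pow, map_eq_one_iff _ e.injective] at this
  · have : Fact (Nat.Prime 5) := ⟨by norm_num⟩
    obtain ⟨P⟩ : Nonempty (Sylow 5 G) := inferInstance
    have hP : Nat.card (P : Subgroup G) = 5 := by
      rw [SC.sylow_card_eq_pow P (k := 1) (m := 4032) (by rw [hG]; norm_num) (by norm_num)]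
      norm_num
    have hb : (P : Subgroup G) ≠ ⊥ := by
      intro hb
      rw [hb, card_bot] at hP
      omega
    have ht : (P : Subgroup G) ≠ ⊤ := by
      intro ht
      rw [ht, card_top, hG] at hP
      omega
    obtain ⟨⟨x, hxP⟩, hx1⟩ := (ne_bot_iff_exists_ne_one).1 hb
    have hx1' : x ≠ 1 := fun h1 => hx1 (Subtype.ext h1)
    have hz : zpowers x = P := SC.zpowers_eq_of_card_prime (by norm_num) hP hxP hx1'
    have hx : orderOf x = 5 := SC.orderOf_eq_of_card_prime (by norm_num) hP hxP hx1'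
    have hnc := SC.not_normalizer_le_centralizer P hb ht
    rw [← hz, SC.centralizer_zpowers] at hnc
    obtain ⟨g, hg, hgc⟩ := SetLike.not_le_iff_exists.1 hnc
    obtain ⟨t, htx⟩ := exists_inv hx hg hgc
    refine ⟨x, t, hx, htx, ?_⟩
    have hodd : Odd (Nat.card (centralizer ({x} : Set G))) :=
      h x hx1' (by rw [hx]; decide) t htx
    have h3 : ¬ 3 ∣ Nat.card (centralizer ({x} : Set G)) := by
      intro h3
      have : Fact (Nat.Prime 3) := ⟨by norm_num⟩
      obtain ⟨⟨y, hy⟩, hy3⟩ := exists_prime_orderOf_dvd_card' 3 h3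
      have hy3' : orderOf y = 3 := by rw [← hy3, ← orderOf_coe]
      have hc : Commute y x := mem_centralizer_singleton_iff.1 hy
      have h15 : orderOf (y * x) = 15 := by
        rw [hc.orderOf_mul_eq_mul_orderOf_of_coprime (by rw [hy3', hx]; norm_num), hy3', hx]
      exact Cfsg.Agent.S0819.result hF (e (y * x)) (by rw [MulEquiv.orderOf_eq, h15])
    have h5 : 5 ∣ Nat.card (centralizer ({x} : Set G)) := by
      rw [← hx]
      exact Subgroup.orderOf_dvd_natCard _ (mem_centralizer_singleton_iff.2 rfl)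
    have hd : Nat.card (centralizer ({x} : Set G)) ∣ 20160 := hG ▸ card_subgroup_dvd_card _
    have hc35 : Nat.card (centralizer ({x} : Set G)) ∣ 35 := by
      have e1 : (20160 : ℕ) = 2 ^ 6 * (3 ^ 2 * 35) := by norm_num
      rw [e1] at hd
      have c2 : Nat.Coprime (Nat.card (centralizer ({x} : Set G))) (2 ^ 6) :=
        Nat.Coprime.pow_right _ (Nat.coprime_two_right.2 hodd)
      have c3 : Nat.Coprime (Nat.card (centralizer ({x} : Set G))) (3 ^ 2) :=
        Nat.Coprime.pow_right _ ((Nat.Prime.coprime_iff_not_dvd Nat.prime_three).2 h3).symm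
      exact c3.dvd_of_dvd_mul_left (c2.dvd_of_dvd_mul_left hd)
    have hr := SC.relIndex_centralizer_dvd_sub_one (p := 5) (by norm_num) (P : Subgroup G) hP
    have hN := SC.card_normalizer_eq_mul (P : Subgroup G)
    have hS := SC.card_normalizer_mul_card_sylow P
    have hm := card_sylow_modEq_one 5 G
    rw [← hz, SC.centralizer_zpowers] at hN hr
    rw [← hz, hG] at hS
    intro h4
    change 4 ∣ Nat.card (normalizer ((zpowers x : Subgroup G) : Set G)) at h4
    generalize (centralizer ({x} : Set G)).relIndex (normalizer ((zpowers x : Subgroup G) : Set G))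
      = r at hN hr
    generalize Nat.card (centralizer ({x} : Set G)) = c at hN hc35 h5
    generalize Nat.card (Sylow 5 G) = n at hS hm
    rw [hN] at h4 hS
    have hc : c = 5 ∨ c = 35 := by
      have := Nat.le_of_dvd (by norm_num) hc35
      interval_cases c <;> omega
    have hr4 : r ≤ 4 := Nat.le_of_dvd (by norm_num) hr
    unfold Nat.ModEq at hm
    rcases hc with rfl | rfl <;> interval_cases r <;> omega

end Cfsg.Lib.RC2
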