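import Cfsg.Agent.RC2.Defs
import Cfsg.Agent.Known.PSLAutOut

/-! `L₂(q)`: the unipotent element is not inverted. -/

set_option autoImplicit false

namespace Cfsg.Lib.RC2

open Subgroup Cfsg.Lib.Gold Cfsg.Lib.Trans Matrix Cfsg.Lib.Known

variable {F : Type*} [Field F]

namespace LTwo

/-- The unipotent elements. -/
def nn (c : F) : SpecialLinearGroup (Fin 2) F := ⟨!![1, c; 0, 1], by simp [det_fin_two_of]⟩

/-- The Weyl element. -/
def ww (F : Type*) [Field F] : SpecialLinearGroup (Fin 2) F :=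
  ⟨!![0, 1; -1, 0], by simp [det_fin_two_of]⟩

/-- The projection. -/
abbrev pr (s : SpecialLinearGroup (Fin 2) F) : ProjectiveSpecialLinearGroup (Fin 2) F :=
  QuotientGroup.mk s

@[simp] theorem coe_nn (c : F) : (nn c).1 = !![1, c; 0, 1] := rfl

@[simp] theorem coe_ww : (ww F).1 = !![0, 1; -1, 0] := rfl

theorem nn_mul (b c : F) : nn b * nn c = nn (b + c) :=
  Subtype.ext (by simp [add_comm])

theorem nn_zero : nn (0 : F) = 1 := Subtype.ext (by simp [one_fin_two])

theorem nn_inv (c : F) : (nn c)⁻¹ = nn (-c) :=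
  inv_eq_of_mul_eq_one_right (by rw [nn_mul, add_neg_cancel, nn_zero])

theorem nn_pow (c : F) (n : ℕ) : nn c ^ n = nn (n * c) := by
  induction n with
  | zero => simp [nn_zero]
  | succ n ih => rw [pow_succ, ih, nn_mul]; congr 1; push_cast; ring

theorem f_nn (σ : RingAut F) (c : F) : fieldSL (Fin 2) F σ (nn c) = nn (σ c) :=
  Subtype.ext (by ext i j; fin_cases i <;> fin_cases j <;> simp)

theorem f_ww (σ : RingAut F) : fieldSL (Fin 2) F σ (ww F) = ww F :=
  Subtype.ext (by ext i j; fin_cases i <;> fin_cases j <;> simp)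

theorem pr_nn {b c : F} (h : pr (nn b) = pr (nn c)) : b = c := by
  obtain ⟨e, he⟩ := PSL_mk_eq_mk_iff.1 h
  have h0 := congrFun (congrFun he 0) 0
  have h1 := congrFun (congrFun he 0) 1
  simp at h0 h1
  rw [h1, ← h0, one_mul]

theorem pr_sq {s : SpecialLinearGroup (Fin 2) F} (h : (s * s).1 = -1) : pr s * pr s = 1 :=
  (PSL_mk_eq_mk_iff (s := 1) (t := s * s)).2 ⟨-1, h.trans (by simp)⟩ |>.symm

theorem act_iff {g : GL (Fin 2) F} {s t : SpecialLinearGroup (Fin 2) F} :
    innD (Fin 2) F g (pr s) = pr t ↔ ∃ c : F, t.1 * g.1 = c • (g.1 * s.1) := by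
  rw [innD_mk, PSL_mk_eq_mk_iff, coe_conjSL]
  refine exists_congr fun c => ⟨fun h => ?_, fun h => ?_⟩
  · rw [show t.1 = _ from h, smul_mul_assoc, Units.inv_mul_cancel_right]
  · rw [← smul_mul_assoc, ← h, Units.mul_inv_cancel_right]

variable [Fintype F] (hF : Odd (Fintype.card F))
include hF

theorem two_ne : (2 : F) ≠ 0 := fun h => by
  obtain ⟨k, hk⟩ := hF
  have := FiniteField.cast_card_eq_zero F
  rw [hk] at this
  simp [h] at this

theorem odd_nn (c : F) : Odd (orderOf (pr (nn c))) := hF.of_dvd_nat (orderOf_dvd_of_pow_eq_one (by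
  rw [← QuotientGroup.mk_pow, nn_pow, FiniteField.cast_card_eq_zero, zero_mul, nn_zero]; rfl))

end LTwo

open LTwo

variable [Fintype F]

theorem l2a (hF : Odd (Fintype.card F)) {A : Set (MulAut (ProjectiveSpecialLinearGroup (Fin 2) F))}
    (h : AA (ProjectiveSpecialLinearGroup (Fin 2) F) A) (u : SpecialLinearGroup (Fin 2) F)
    (hu : (u : Matrix (Fin 2) (Fin 2) F) = !![1, 1; 0, 1])
    (y : MulAut (ProjectiveSpecialLinearGroup (Fin 2) F)) (hy : y ∈ A) (h2 : Tw y)
    (hi : y (QuotientGroup.mk u) = (QuotientGroup.mk u)⁻¹) : False := by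
  obtain rfl : u = nn 1 := Subtype.ext hu
  obtain ⟨β, -, b2, -, bx, -, N, hN, xN, hm⟩ := h.key _ (fun e => one_ne_zero
    (pr_nn (e.trans (congrArg pr nn_zero).symm))) (odd_nn hF 1) y hy h2 hi
  obtain ⟨g, σ, rfl⟩ := PSL_aut_eq_two β
  rw [MulAut.mul_apply, fieldAut_mk, f_nn, map_one] at bx
  obtain ⟨e, he⟩ := act_iff.1 bx
  have h00 := congrFun (congrFun he 0) 0
  have h01 := congrFun (congrFun he 0) 1
  have h10 := congrFun (congrFun he 1) 0
  have h11 := congrFun (congrFun he 1) 1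
  simp [mul_apply, Fin.sum_univ_two] at h00 h01 h10 h11
  have g10 : g.1 1 0 = 0 := by_contra fun k => k (by
    have : e = 1 := mul_right_cancel₀ k (by linear_combination -h10)
    rw [this] at h00; linear_combination h00)
  have hd := g.det_ne_zero
  rw [det_fin_two, g10, mul_zero, sub_zero] at hd
  have g00 := left_ne_zero_of_mul hd
  obtain rfl : e = 1 := mul_right_cancel₀ g00 (by linear_combination g10 - h00)
  have g11 : g.1 1 1 = g.1 0 0 := by linear_combination h01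
  obtain ⟨b, hb⟩ : ∃ b, ∀ s, (innD (Fin 2) F g * fieldAut (Fin 2) F σ) (pr s) =
      pr (nn b * fieldSL (Fin 2) F σ s * (nn b)⁻¹) := ⟨g.1 0 1 / g.1 0 0, fun s => by
    have e : g.1 = g.1 0 0 • (nn (g.1 0 1 / g.1 0 0)).1 := by
      ext i j; fin_cases i <;> fin_cases j <;> simp [g10, g11, mul_div_cancel₀ _ g00]
    rw [MulAut.mul_apply, fieldAut_mk]
    refine act_iff.2 ⟨1, ?_⟩
    generalize nn (g.1 0 1 / g.1 0 0) = n at e
    generalize g.1 0 0 = a at e
    rw [e, one_smul, mul_smul_comm, smul_mul_assoc]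
    exact congrArg (fun x : SpecialLinearGroup (Fin 2) F => a • x.1) (inv_mul_cancel_right _ _)⟩
  generalize innD (Fin 2) F g * fieldAut (Fin 2) F σ = β at *
  have c0 : b + σ b = 0 := by
    have := hb (nn b * fieldSL (Fin 2) F σ (ww F) * (nn b)⁻¹)
    rw [← hb, ← MulAut.mul_apply, b2, MulAut.one_apply, map_mul, map_mul, map_inv, f_ww, f_ww, f_nn,
      ← mul_assoc, ← mul_assoc, mul_assoc _ _⁻¹, ← _root_.mul_inv_rev, nn_mul, nn_inv] at this
    obtain ⟨e, he⟩ := PSL_mk_eq_mk_iff.1 this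
    have := congrFun (congrFun he 0) 0
    simp [mul_apply, Fin.sum_univ_two] at this
    linear_combination -this
  have k : nn b * nn (σ (b / 2)) = nn (b / 2) := by
    rw [nn_mul, map_div₀, map_ofNat, eq_neg_of_add_eq_zero_right c0]
    congr 1
    field_simp [two_ne hF]
    ring
  have m := hm (pr (nn (b / 2) * ww F * (nn (b / 2))⁻¹)) (by
    rw [hb, map_mul, map_mul, map_inv, f_ww, f_nn, ← mul_assoc, ← mul_assoc, mul_assoc _ _⁻¹,
      ← _root_.mul_inv_rev, k]) _ xN
  have cm : Commute (nn (b / 2)) (nn 1) := by rw [Commute, SemiconjBy, nn_mul, nn_mul, add_comm]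
  have e : (nn 1 * (ww F * nn 1 * (ww F)⁻¹) ^ 2).1 = !![-1, 1; -2, 1] := by
    simp [sq, adjugate_fin_two]
    norm_num
  generalize nn (b / 2) = k at m cm
  have z : pr k * pr (nn 1 * (ww F * nn 1 * (ww F)⁻¹) ^ 2) * (pr k)⁻¹ ∈ N := by
    convert mul_mem xN (pow_mem m 2) using 1
    simp only [← QuotientGroup.mk_mul, ← QuotientGroup.mk_inv, ← QuotientGroup.mk_pow]
    congr 1
    rw [← mul_assoc, cm.eq, show k * ww F * k⁻¹ * nn 1 * (k * ww F * k⁻¹)⁻¹ =
      k * (ww F * (k⁻¹ * (nn 1 * k)) * (ww F)⁻¹) * k⁻¹ by group, ← cm.eq, inv_mul_cancel_left,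
      conj_pow (a := k), cm.eq]
    simp only [mul_assoc]
  generalize nn 1 * (ww F * nn 1 * (ww F)⁻¹) ^ 2 = s at e z
  have := eq_one_of_sq_of_odd (by
    rw [conj_mul, pr_sq (by
      change s.1 * s.1 = _; rw [e]; ext i j; fin_cases i <;> fin_cases j <;> norm_num)]
    group) (odd_orderOf_of_mem z hN)
  obtain ⟨c, hc⟩ := (PSL_mk_eq_mk_iff (s := 1)).1 (conj_eq_one_iff.1 this).symm
  simpa [e] using congrFun (congrFun hc 0) 1

end Cfsg.Lib.RC2
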