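import Cfsg.Agent.RC2.LTwoA

/-! `L₂(q)`: reduction to the unipotent case. -/

set_option autoImplicit false

namespace Cfsg.Lib.RC2

open Subgroup Cfsg.Lib.Gold Cfsg.Lib.Trans Matrix Cfsg.Lib.Known LTwo

variable {F : Type*} [Field F]

namespace LTwoB

/-- The diagonal elements. -/
def dd : Fˣ →* SpecialLinearGroup (Fin 2) F := MonoidHom.mk'
  (fun l => ⟨!![(l : F), 0; 0, (l⁻¹ : F)], by simp [det_fin_two_of]⟩) fun a b =>
    Subtype.ext (by
      change _ = !![(a : F), 0; 0, (a⁻¹ : F)] * !![(b : F), 0; 0, (b⁻¹ : F)]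
      simp [mul_comm])

@[simp] theorem coe_dd (l : Fˣ) : (dd l).1 = !![(l : F), 0; 0, (l⁻¹ : F)] := rfl

theorem tw_conj {s : SpecialLinearGroup (Fin 2) F} (h : (s * s).1 = -1) :
    Tw (MulAut.conj (pr s)) := tw_of_sq (by rw [← map_mul, pr_sq h, map_one])

end LTwoB

open LTwoB

variable [Fintype F]

theorem l2b (hF : Odd (Fintype.card F)) (h3 : 3 < Fintype.card F)
    {A : Set (MulAut (ProjectiveSpecialLinearGroup (Fin 2) F))}
    (h : AA (ProjectiveSpecialLinearGroup (Fin 2) F) A)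
    (ha : ∀ u : SpecialLinearGroup (Fin 2) F, (u : Matrix (Fin 2) (Fin 2) F) = !![1, 1; 0, 1] →
      ∀ y ∈ A, Tw y → y (QuotientGroup.mk u) = (QuotientGroup.mk u)⁻¹ → False) : False := by
  classical
  have t2 := two_ne hF
  by_cases hs : IsSquare (-1 : F)
  · obtain ⟨i, hi⟩ := hs
    have i0 : i ≠ 0 := by rintro rfl; simp at hi
    have ii : i⁻¹ = -i := inv_eq_of_mul_eq_one_right (by linear_combination hi)
    refine ha (nn 1) rfl _ (h.inn (pr (dd (Units.mk0 i i0)))) (tw_conj ?_) ?_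
    · ext a b; fin_cases a <;> fin_cases b <;> simp [ii, ← hi]
    · rw [MulAut.conj_apply, mul_inv_eq_iff_eq_mul, ← QuotientGroup.mk_inv, nn_inv]
      exact congrArg pr (Subtype.ext (by simp [ii]))
  have hm : Odd (Fintype.card F / 2) := by
    rw [FiniteField.isSquare_neg_one_iff] at hs
    exact Nat.odd_iff.2 (by omega)
  obtain ⟨c, hc⟩ : ∃ c : F, c ∉ ({0, 1, -1} : Finset F) :=
    Finset.exists_mem_notMem_of_card_lt_card (s := {0, 1, -1}) (t := Finset.univ)
      (Finset.card_le_three.trans_lt h3) |>.imp fun _ k => k.2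
  simp only [Finset.mem_insert, Finset.mem_singleton, not_or] at hc
  obtain ⟨l, l1, lm⟩ : ∃ l : Fˣ, (l : F) * l ≠ 1 ∧ l ^ (Fintype.card F / 2) = 1 :=
    ⟨Units.mk0 c hc.1 ^ 2, fun e => by
      simp only [Units.val_mul, Units.val_mk0, mul_self_eq_one_iff, sq] at e
      exact e.elim (fun e => e.elim hc.2.1 hc.2.2) fun e => hs ⟨c, e.symm⟩, Units.ext (by
      rw [← pow_mul, show 2 * (Fintype.card F / 2) = Fintype.card F - 1 by
        obtain ⟨k, hk⟩ := hF; omega]
      simpa using FiniteField.pow_card_sub_one_eq_one c hc.1)⟩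
  have l0 := l.ne_zero
  obtain ⟨β, hβ, b2, b1, bx, -⟩ := h.key (pr (dd l)) (fun e => by
      obtain ⟨e, he⟩ := (PSL_mk_eq_mk_iff (s := 1)).1 e.symm
      have h0 := congrFun (congrFun he 0) 0
      have h1 := congrFun (congrFun he 1) 1
      simp at h0 h1
      exact l1 (by rw [← mul_inv_cancel₀ l0, h1, ← h0]))
    (hm.of_dvd_nat (orderOf_dvd_of_pow_eq_one (by
      rw [← QuotientGroup.mk_pow, ← map_pow, lm, map_one]; rfl))) _ (h.inn (pr (ww F)))
    (tw_conj (by ext a b; fin_cases a <;> fin_cases b <;> simp)) (by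
      rw [MulAut.conj_apply, mul_inv_eq_iff_eq_mul, ← QuotientGroup.mk_inv, ← map_inv]
      exact congrArg pr (Subtype.ext (by simp)))
  obtain ⟨g, σ, rfl⟩ := PSL_aut_eq_two β
  obtain rfl : σ = 1 := by
    obtain ⟨φ, k1, k2⟩ := exists_outer_hom_two (F := F)
    have e := congrArg φ b2
    rw [map_mul, map_mul, k2, show φ (innD (Fin 2) F g) = 1 from k1.ge ⟨g, rfl⟩, one_mul,
      map_one] at e
    refine RingEquiv.ext fun a => by_contra fun n => ?_
    have z0 : a - σ a ≠ 0 := sub_ne_zero.2 (Ne.symm n)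
    have z1 : σ ((a - σ a) ^ (Fintype.card F / 2)) = -(a - σ a) ^ (Fintype.card F / 2) := by
      rw [map_pow, map_sub, show σ (σ a) = a from DFunLike.congr_fun e a, ← neg_sub, hm.neg_pow]
    rcases FiniteField.pow_dichotomy (fun k => t2 (by
      simpa using (ringChar.spec F 2).2 k.dvd)) z0 with k | k <;> rw [k] at z1
    · exact t2 (by rw [map_one] at z1; linear_combination z1)
    · exact t2 (by rw [map_neg, map_one] at z1; linear_combination -z1)
  rw [map_one, mul_one] at *
  obtain ⟨e, he⟩ := act_iff.1 bx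
  have h00 := congrFun (congrFun he 0) 0
  have h01 := congrFun (congrFun he 0) 1
  have h10 := congrFun (congrFun he 1) 0
  have h11 := congrFun (congrFun he 1) 1
  simp [mul_apply, Fin.sum_univ_two] at h00 h01 h10 h11
  field_simp at h00 h01 h10 h11
  have hd := g.det_ne_zero
  rw [det_fin_two] at hd
  obtain rfl : e = 1 := by_contra fun n => by
    have a0 : g.1 0 0 = 0 := by_contra fun k => n (mul_left_cancel₀ k (by linear_combination -h00))
    rw [a0, zero_mul, zero_sub, neg_ne_zero] at hd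
    have a1 := mul_left_cancel₀ (left_ne_zero_of_mul hd) (show _ * (l : F) ^ 2 = _ * e by
      linear_combination h01)
    have a2 := mul_left_cancel₀ (right_ne_zero_of_mul hd) (show _ * 1 = _ * (e * (l : F) ^ 2) by
      linear_combination h10)
    exact (mul_self_eq_one_iff.1 (show (l : F) * l * (l * l) = 1 by
      rw [← a1] at a2; linear_combination -a2)).elim l1 fun k => hs ⟨l, k.symm⟩
  have l2 := sub_ne_zero.2 l1
  have g01 : g.1 0 1 = 0 := mul_left_cancel₀ l2 (by linear_combination h01)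
  have g10 : g.1 1 0 = 0 := mul_left_cancel₀ l2 (by linear_combination -h10)
  rw [g10, mul_zero, sub_zero] at hd
  have g11 := right_ne_zero_of_mul hd
  have k : ∀ c, innD (Fin 2) F g (pr (nn c)) = pr (nn (g.1 0 0 / g.1 1 1 * c)) := fun c =>
    act_iff.2 ⟨1, by
      ext a b; fin_cases a <;> fin_cases b <;> simp [mul_apply, Fin.sum_univ_two, g01, g10]
      field_simp⟩
  have k2 := DFunLike.congr_fun b2 (pr (nn 1))
  rw [MulAut.mul_apply, k, k, mul_one] at k2
  rcases mul_self_eq_one_iff.1 (pr_nn k2) with k3 | k3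
  · refine b1 (MulEquiv.ext fun x => QuotientGroup.induction_on x fun s => act_iff.2 ⟨1, ?_⟩)
    rw [div_eq_one_iff_eq g11] at k3
    ext a b; fin_cases a <;> fin_cases b <;>
      simp [mul_apply, Fin.sum_univ_two, g01, g10, k3, mul_comm]
  · exact ha (nn 1) rfl _ hβ (tw_of_sq b2) (by
      rw [k, k3, mul_one, ← QuotientGroup.mk_inv, nn_inv])

end Cfsg.Lib.RC2
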