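import Cfsg.Agent.RC2.Defs
import Cfsg.Agent.S3862
import Cfsg.Agent.Gold.KLiftDX

/-!
# Real classes with equal 2-parts (S3860): the centraliser of a defect group is 2-nilpotent
-/

set_option autoImplicit false

namespace Cfsg.Lib.RC2

open Subgroup Cfsg.Lib.Gold Cfsg.Lib.Trans

variable {G : Type*} [Group G] [Finite G]

private theorem fact_card (H : Subgroup G) :
    (Nat.card H).factorization 2 + H.index.factorization 2 = (Nat.card G).factorization 2 := by
  rw [← H.card_mul_index, Nat.factorization_mul Nat.card_pos.ne' index_ne_zero_of_finite]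
  rfl

theorem lemN (a : ℕ) (h : ∀ x : G, IsConj x x⁻¹ → x ∉ center G →
    ((centralizer ({x} : Set G)).index).factorization 2 = a) : HX G := by
  intro x x1 ho y hy T hT g hg hgo
  have hx : (C1 x).index.factorization 2 = a := h x (isConj_iff.2 ⟨y, hy⟩) fun k =>
    x1 (eq_one_of_inverts_of_comm ho hy (mem_center_iff.1 k y))
  refine KT.mem_Oc_of_compl (Agent.S3862.result fun w ⟨j, hj⟩ hw => ?_) hg hgo
  have hw' : IsConj (w : G) (w : G)⁻¹ := Solv.Real.isConj_inv_map (Cs T).subtype hw
  by_cases hc : (w : G) ∈ center G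
  · exact mem_center_iff.2 fun k => Subtype.ext (mem_center_iff.1 hc k)
  have h1 : (C1 (w : G)).index.factorization 2 = a := h w hw' hc
  have h2 : T ≤ C1 (w : G) := fun t ht => mem_C1.2 (mem_Cs.1 w.2 t ht)
  obtain ⟨Q, hQ, hTQ⟩ := exists_isSylowIn_ge hT.isPGroup h2
  have h3 : T = Q := eq_of_le_of_card_ge hTQ (by
    have e1 := fact_card (C1 x)
    have e2 := fact_card (C1 (w : G))
    rw [hT.card_eq, hQ.card_eq, show (Nat.card (C1 (w : G))).factorization 2 =
      (Nat.card (C1 x)).factorization 2 by omega])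
  subst h3
  have h4 : (w : G) ∈ T := by
    have hz : zpowers (w : G) ≤ C1 (w : G) := zpowers_le.2 (mem_C1.2 rfl)
    have hp : IsPGroup 2 (T ⊔ zpowers (w : G) : Subgroup G) :=
      IsPGroup.to_sup_of_normal_left' hT.isPGroup
        (tw_of_orderOf (k := j) (by rwa [orderOf_coe])).isPGroup
        (zpowers_le.2 (Cs_le_Ns w.2))
    exact (hQ.eq_of_le hp le_sup_left (sup_le h2 hz)).le (mem_sup_right (mem_zpowers _))
  exact mem_center_iff.2 fun k => Subtype.ext (mem_Cs.1 k.2 _ h4).symm

end Cfsg.Lib.RC2
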