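import Cfsg.Agent.RC2.Defs

/-!
# Real classes with equal 2-parts (S3860): lifts of odd order
-/

set_option autoImplicit false

namespace Cfsg.Lib.RC2

open Subgroup Cfsg.Lib.Gold Cfsg.Lib.Trans

variable {G : Type*} [Group G] [Finite G]

variable {X : Type*} [Group X] [Finite X] {U : Subgroup G} {π : G →* X}

omit [Finite X] in
theorem lf (hU : U.Normal) (h2 : IsPGroup 2 U) (hs : Function.Surjective π)
    (hk : π.ker = U ⊔ Oc (Cs U)) : LF U π := by
  have hO : (Oc (Cs U)).Normal := normalizer_eq_top_iff.1 (top_le_iff.1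
    (le_Ns_Oc (le_Ns_Cs (normalizer_eq_top U).ge)))
  have dec : ∀ g, π g = 1 → ∃ u ∈ U, ∃ o ∈ Oc (Cs U), u * o = g := fun g hg =>
    mem_sup_of_normal_right.1 (hk.le hg)
  have uniq : ∀ a : X, ∀ x ∈ Om U π a, ∀ x' ∈ Om U π a, x * x'⁻¹ ∈ Oc (Cs U) := by
    intro a x hx x' hx'
    obtain ⟨u, hu, o, ho, e⟩ := dec (x * x'⁻¹) (by
      rw [map_mul, map_inv, hx.2.2, hx'.2.2, mul_inv_cancel])
    rw [← e]
    refine mul_mem ?_ ho
    let f := QuotientGroup.mk' (Oc (Cs U))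
    have e1 : f x = f u * f x' := by
      rw [eq_mul_of_mul_inv_eq e.symm, map_mul, map_mul,
        show f o = 1 from (QuotientGroup.eq_one_iff o).2 ho, mul_one]
    have c : Commute (f u) (f x') := Commute.map (mem_Cs.1 hx'.1 u hu) f
    have e2 := congrArg (· ^ (orderOf x * orderOf x')) e1
    simp only [c.mul_pow] at e2
    rw [← map_pow f x, ← map_pow f x', pow_mul x, mul_comm (orderOf x), pow_mul x', pow_orderOf_eq_one,
      pow_orderOf_eq_one, one_pow, one_pow, map_one, mul_one] at e2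
    exact (QuotientGroup.eq_one_iff u).1 (((tw_of_mem h2 hu).map f).eq_one
      ((hx'.2.1.mul hx.2.1).of_dvd_nat (orderOf_dvd_of_pow_eq_one e2.symm)))
  have lift : ∀ a ∈ (Cs U).map π, Odd (orderOf a) → ∃ x, x ∈ Om U π a := by
    rintro _ ⟨k, hk, rfl⟩ ho
    obtain ⟨j, m, hm, e⟩ := Nat.exists_eq_two_pow_mul_odd (orderOf_pos k).ne'
    obtain ⟨n, hn⟩ := exists_pow_eq_self_of_coprime ((Nat.coprime_two_left.2 ho).pow_left j)
    refine ⟨(k ^ 2 ^ j) ^ n, pow_mem (pow_mem hk _) _, hm.of_dvd_nat (orderOf_dvd_of_pow_eq_one ?_),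
      by rw [map_pow, map_pow, hn]⟩
    rw [← pow_mul, mul_comm n, pow_mul, ← pow_mul k, ← e, pow_orderOf_eq_one, one_pow]
  refine ⟨hs, hk, fun a ha ho => ?_, lift, uniq, fun g hg ⟨k, e⟩ => ?_⟩
  · obtain ⟨x, hx⟩ := lift a ha ho
    have m : ∀ o ∈ Oc (Cs U), o * x ∈ Om U π a := fun o ho => by
      refine ⟨mul_mem (Oc_le ho) hx.1, ?_, by
        rw [map_mul, show π o = 1 from hk.ge (mem_sup_right ho), one_mul, hx.2.2]⟩
      have h1 : (o * x) ^ orderOf x ∈ Oc (Cs U) := (QuotientGroup.eq_one_iff _).1 (by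
        rw [QuotientGroup.mk_pow, QuotientGroup.mk_mul, (QuotientGroup.eq_one_iff o).2 ho, one_mul,
          ← QuotientGroup.mk_pow, pow_orderOf_eq_one, QuotientGroup.mk_one])
      refine (hx.2.1.mul (odd_orderOf_of_mem h1 odd_card_Oc)).of_dvd_nat
        (orderOf_dvd_of_pow_eq_one ?_)
      rw [pow_mul, pow_orderOf_eq_one]
    rw [← Nat.card_eq_of_bijective (fun o : Oc (Cs U) => (⟨o * x, m o o.2⟩ : Om U π a))
      ⟨fun o o' e => Subtype.ext (mul_right_cancel (congrArg Subtype.val e)),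
        fun y => ⟨⟨_, uniq a y y.2 x hx⟩, Subtype.ext (inv_mul_cancel_right _ _)⟩⟩]
    exact odd_card_Oc
  · obtain ⟨u, hu, o, ho, rfl⟩ := dec g hg
    obtain ⟨j, hj⟩ := tw_of_mem h2 hu
    have c : Commute u o := mem_Cs.1 (Oc_le ho) u hu
    have e1 := congrArg (· ^ 2 ^ j) e
    simp only [← pow_mul, one_pow] at e1
    rw [c.mul_pow, mul_comm (2 ^ k), pow_mul u, hj, one_pow, one_mul, ← pow_add] at e1
    rwa [Tw.eq_one ⟨_, e1⟩ (odd_orderOf_of_mem ho odd_card_Oc), mul_one]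

end Cfsg.Lib.RC2
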