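import Cfsg.Agent.RC2.Defs

/-!
# Real classes with equal 2-parts (S3860): a maximal 2-subgroup with the property PP
-/

set_option autoImplicit false

namespace Cfsg.Lib.RC2

open Subgroup Cfsg.Lib.Gold Cfsg.Lib.Trans

variable {G : Type*} [Group G] [Finite G]

theorem exists_ls (h : HX G) (h0 : PP (⊥ : Subgroup G)) :
    ∃ (N : Subgroup G) (U : Subgroup N), LS U ∧ PP U := by
  have : Fact (Nat.Prime 2) := ⟨Nat.prime_two⟩
  obtain ⟨V, ⟨v2, vP⟩, hV⟩ := Set.Finite.exists_maximal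
    (Set.toFinite {V : Subgroup G | IsPGroup 2 V ∧ PP V}) ⟨⊥, IsPGroup.of_bot, h0⟩
  have hi := (Ns V).subtype_injective
  have e0 : (V.subgroupOf (Ns V)).map (Ns V).subtype = V := map_subgroupOf_eq_of_le le_normalizer
  have e1 : ∀ U', V.subgroupOf (Ns V) ≤ U' →
      (Cs U').map (Ns V).subtype = Cs (U'.map (Ns V).subtype) := fun U' hU => by
    refine le_antisymm ?_ fun g hg => ⟨⟨g, Cs_le_Ns (Cs_anti (e0.ge.trans (map_mono hU)) hg)⟩,
      mem_Cs.2 fun u hu => Subtype.ext (mem_Cs.1 hg _ (mem_map_of_mem _ hu)), rfl⟩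
    rintro _ ⟨g, hg, rfl⟩
    refine mem_Cs.2 ?_
    rintro _ ⟨u, hu, rfl⟩
    exact congrArg Subtype.val (mem_Cs.1 hg u hu)
  have e2 : ∀ U', V.subgroupOf (Ns V) ≤ U' → ∀ x : Ns V,
      x ∈ Oc (Cs U') ↔ (x : G) ∈ Oc (Cs (U'.map (Ns V).subtype)) := fun U' hU x => by
    rw [← e1 U' hU, Oc, Oc, ← map_ppCoreOf_of_injective _ hi]
    exact (mem_map_iff_mem hi).symm
  have e3 : ∀ x : Ns V, x ∈ Oc (Cs (V.subgroupOf (Ns V))) ↔ (x : G) ∈ Oc (Cs V) := fun x => by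
    rw [e2 _ le_rfl, e0]
  have u2 : IsPGroup 2 (V.subgroupOf (Ns V)) := v2.comap_of_injective _ hi
  refine ⟨Ns V, V.subgroupOf (Ns V), ⟨normal_in_normalizer, u2, fun x hx ho y hy hs => ?_,
    fun U' h2 hlt ⟨x, hx, ho, hn, y, hy, e⟩ => ?_⟩, ?_⟩
  · by_cases x1 : (x : G) = 1
    · rw [e3, x1]; exact one_mem _
    have hx' : (x : G) ∈ Cs V := Cs_anti e0.ge ((e1 _ le_rfl).le (mem_map_of_mem _ hx))
    obtain ⟨T, hT, hle⟩ := exists_isSylowIn_ge (H := C1 (x : G)) v2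
      fun v hv => mem_C1.2 (mem_Cs.1 hx' v hv)
    obtain rfl : V = T := by
      by_contra hne
      have h1 := lt_inf_normalizer hT.isPGroup (lt_of_le_of_ne hle hne)
      have h2 := hs.eq_of_le (Q := T.subgroupOf (Ns V)) (hT.isPGroup.comap_of_injective _ hi)
        (fun g hg => hle hg) fun g hg => mem_C1.2 (Subtype.ext (mem_C1.1 (hT.le hg)))
      exact h1.not_ge fun g hg => h2.le (show (⟨g, hg.2⟩ : Ns V) ∈ _ from hg.1)
    have ho' : Odd (orderOf (x : G)) := by rwa [orderOf_coe]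
    exact (e3 x).2 (h x x1 ho' y (congrArg Subtype.val hy) _ hT x hx' ho')
  · refine hlt.not_ge (map_le_map_iff_of_injective hi |>.1 (le_trans (hV ⟨h2.map _, x, ?_,
      by rwa [orderOf_coe], mt (e2 _ hlt.le x).2 hn, y, le_normalizer_map _ (mem_map_of_mem _ hy),
      (e2 _ hlt.le _).1 e⟩ (e0.ge.trans (map_mono hlt.le))) e0.ge))
    rw [← e1 _ hlt.le]; exact mem_map_of_mem _ hx
  · obtain ⟨x, hx, ho, hn, y, hy, e⟩ := vP
    refine ⟨⟨x, Cs_le_Ns hx⟩, mem_Cs.2 fun u hu => Subtype.ext (mem_Cs.1 hx _ hu),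
      by rwa [← orderOf_coe], mt (e3 _).1 hn, ⟨y, hy⟩, ?_, (e3 _).2 e⟩
    have : (V.subgroupOf (Ns V)).Normal := normal_in_normalizer
    exact (normalizer_eq_top _).ge trivial

end Cfsg.Lib.RC2
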