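import Cfsg.Agent.RC2.Defs
import Cfsg.Agent.S3862
import Cfsg.Agent.Gold.KLiftDX

/-!
# Real classes with equal 2-parts (S3860): the quotient has trivial core
-/

set_option autoImplicit false
set_option linter.unusedSectionVars false
set_option linter.unusedVariables false

namespace Cfsg.Lib.RC2

open Subgroup Cfsg.Lib.Gold Cfsg.Lib.Trans

variable {G : Type*} [Group G] [Finite G]
variable {X : Type*} [Group X] [Finite X] {U : Subgroup G} {π : G →* X}

theorem bs_o1 (h : LS U) (f : LF U π) : Oc ((Cs U).map π) = ⊥ := by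
  have hk : Oc (Cs U) ≤ π.ker := f.ker ▸ le_sup_right
  set W := Oc ((Cs U).map π) with hW
  have h1 : HasNormalPComplement 2 (Cs U ⊓ W.comap π : Subgroup G) := by
    refine Agent.S3862.result fun w ⟨j, hj⟩ _ => ?_
    have h2 : Tw (w : G) := tw_of_orderOf (k := j) (by rwa [orderOf_coe])
    have h3 : (w : G) ∈ U := f.two _
      ((h2.map π).eq_one (odd_orderOf_of_mem (X := W) w.2.2 odd_card_Oc)) h2
    exact mem_center_iff.2 fun k => Subtype.ext (mem_Cs.1 k.2.1 _ h3).symm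
  have h2 : Cs U ≤ Ns (Cs U ⊓ W.comap π) := by
    refine le_Ns_inf le_normalizer fun k hk => ?_
    have h3 : π k ∈ Ns W := le_Ns_Oc_self (mem_map_of_mem π hk)
    refine mem_normalizer_iff.2 fun x => ?_
    rw [mem_comap, mem_comap, map_mul, map_mul, map_inv]
    exact mem_normalizer_iff.1 h3 _
  have h3 : Oc (Cs U ⊓ W.comap π) ≤ Oc (Cs U) :=
    le_Oc_of_le_Ns (Oc_le.trans inf_le_left) (le_Ns_Oc h2) odd_card_Oc
  refine eq_bot_iff.2 fun a ha => ?_
  obtain ⟨x, hx, ho, rfl⟩ := f.lift a (Oc_le ha) (odd_orderOf_of_mem ha odd_card_Oc)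
  exact hk (h3 (KT.mem_Oc_of_compl h1 ⟨hx, ha⟩ ho))

theorem bs_p0 (h : LS U) (f : LF U π) (p : PP U) :
    ∃ x ∈ (Cs U).map π, x ≠ 1 ∧ Odd (orderOf x) ∧ ∃ y : X, y * x * y⁻¹ = x⁻¹ := by
  have hk : Oc (Cs U) ≤ π.ker := f.ker ▸ le_sup_right
  obtain ⟨x, hx, ho, h1, y, -, h2⟩ := p
  refine ⟨π x, mem_map_of_mem π hx, fun e => h1 ?_, ho.of_dvd_nat (orderOf_map_dvd π x), π y, ?_⟩
  · simpa using f.uniq 1 x ⟨hx, ho, e⟩ 1 ⟨one_mem _, by simp, map_one π⟩
  · have := hk h2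
    rw [MonoidHom.mem_ker, map_mul, map_mul, map_mul, map_inv] at this
    exact eq_inv_of_mul_eq_one_left this

end Cfsg.Lib.RC2
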