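import Cfsg.Agent.RC2.Defs
import Cfsg.Agent.S0028
import Cfsg.Agent.Solv.HaradaTools
import Cfsg.Agent.Solv.CoprimeGen

/-!
# Real classes with equal 2-parts (S3860): the rank of the centre of a Sylow 2-subgroup
-/

set_option autoImplicit false

namespace Cfsg.Lib.RC2

open Subgroup Cfsg.Lib.Gold Cfsg.Lib.Trans
open scoped commutatorElement

variable {G : Type*} [Group G] [Finite G] {M : Subgroup G}

private theorem rk_sq {V : Subgroup G} (hV : ∀ v ∈ V, v * v = 1) {x : G} (hx : x ∈ Ns V)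
    (h2 : x * x = 1) : Nat.card V ≤ Nat.card (C1 x ⊓ V : Subgroup G) ^ 2 := by
  rw [pow_two]
  refine Solv.PG.card_le_mul_card_centralizer fun v hv => ?_
  have h1 : ⁅v, x⁆ ∈ V := by
    rw [commutatorElement_def, mul_assoc, mul_assoc, ← mul_assoc x]
    exact V.mul_mem hv ((mem_normalizer_iff.1 hx _).1 (V.inv_mem hv))
  refine ⟨mem_C1.2 ?_, h1⟩
  rw [eq_comm, ← mul_inv_eq_iff_eq_mul, Solv.PG.inverted_commutator (by rw [pow_two, h2]),
    ← eq_inv_of_mul_eq_one_left (hV _ h1)]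

private theorem rk_charP (c : CT M) {e : G} (he : e ∈ M) (h2 : orderOf e = 2) :
    Local.CharP 2 (M ⊓ C1 e) := by
  have h1 := (Local.charP_map_iff M.subtype M.subtype_injective).2
    (c ⟨e, he⟩ (by rw [← h2, ← orderOf_coe]))
  have h3 : (C1 (⟨e, he⟩ : M)).map M.subtype = M ⊓ C1 e := by
    ext g
    constructor
    · rintro ⟨x, hx, rfl⟩
      exact ⟨x.2, mem_C1.2 (congrArg Subtype.val (mem_C1.1 hx))⟩
    · rintro ⟨hg, hg'⟩
      exact ⟨⟨g, hg⟩, mem_C1.2 (Subtype.ext (mem_C1.1 hg')), rfl⟩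
  rwa [h3] at h1

private theorem rk_bot (hM : M.Normal) (c : CT M) {j e : G} (hj : orderOf j = 2)
    (he : e ∈ M ⊓ C1 j) (h2 : orderOf e = 2) : Oc (M ⊓ C1 j) ⊓ C1 e = ⊥ := by
  have : Fact (Nat.Prime 2) := ⟨Nat.prime_two⟩
  set N := Oc (M ⊓ C1 j) with hN
  set B := M ⊓ C1 e with hB
  set R := pCoreOf 2 B with hR
  have hc : Local.CharP 2 B := rk_charP c he.1 h2
  have hRp : IsPGroup 2 R := Local.isPGroup_pCoreOf B
  have hNo : Odd (Nat.card N) := odd_card_Oc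
  have hQo : Odd (Nat.card (N ⊓ C1 e : Subgroup G)) := odd_card_of_le inf_le_left hNo
  have hQB : N ⊓ C1 e ≤ B := inf_le_inf_right _ (Oc_le.trans inf_le_left)
  have hjj : j * j = 1 := by rw [← pow_two, ← hj, pow_orderOf_eq_one]
  have hjB : j ∈ Ns B :=
    mem_Ns_inf ((normalizer_eq_top M).symm ▸ mem_top j : j ∈ normalizer (M : Set G))
      (mem_Ns_C1 (mem_C1.1 he.2).symm)
  have hQR : N ⊓ C1 e ≤ Ns R := hQB.trans (Local.le_normalizer_pCoreOf B)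
  have key := Cfsg.Agent.S0028.result 2 (zpowers j) (N ⊓ C1 e) R (tw_of_sq hjj).isPGroup
    (odd_iff_coprime.1 hQo) hRp
    (zpowers_le.2 (mem_Cs.2 fun u hu => mem_C1.1 (Oc_le hu.1).2))
    (zpowers_le.2 (Local.normalizer_le_normalizer_pCoreOf B hjB)) hQR (by
      rintro r ⟨hr, hr'⟩
      refine mem_Cs.2 fun q hq => ?_
      have hrH : r ∈ M ⊓ C1 j :=
        ⟨(Local.pCoreOf_le B hr).1, mem_C1.2 (mem_Cs.1 hr' j (mem_zpowers j)).symm⟩
      have h1 : q * r * q⁻¹ * r⁻¹ ∈ R :=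
        R.mul_mem ((mem_normalizer_iff.1 (hQR hq) r).1 hr) (R.inv_mem hr)
      have h3 : q * r * q⁻¹ * r⁻¹ ∈ N := by
        rw [mul_assoc, mul_assoc, ← mul_assoc r]
        exact N.mul_mem hq.1 ((mem_normalizer_iff.1 (le_Ns_Oc_self hrH) _).1 (N.inv_mem hq.1))
      have h4 := eq_one_of_mem_of_odd hRp hNo h1 h3
      rwa [mul_inv_eq_one, mul_inv_eq_iff_eq_mul] at h4)
  refine eq_bot_iff.2 fun q hq => ?_
  exact eq_one_of_mem_of_odd hRp hQo (hc ⟨hQB hq, key hq⟩) hq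

private theorem rk_two (hM : M.Normal) (c : CT M) {j : G} (hj : orderOf j = 2)
    (hN : Oc (M ⊓ C1 j) ≠ ⊥) {W : Subgroup G} (hW : W ≤ M ⊓ C1 j) (h2 : ∀ w ∈ W, w * w = 1) :
    Nat.card W ≤ 2 := by
  have : Fact (Nat.Prime 2) := ⟨Nat.prime_two⟩
  have := isMulCommutative_of_sq h2
  by_cases hc : IsCyclic W
  · obtain ⟨g, hg⟩ := hc.exists_ofOrder_eq_natCard
    rw [← hg]
    exact Nat.le_of_dvd two_pos (orderOf_dvd_of_pow_eq_one
      (Subtype.ext (by rw [pow_two]; exact h2 g g.2)))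
  · obtain ⟨a, ha, a1, h3⟩ := Solv.Coprime.exists_inf_centralizer_singleton_ne_bot hc
      (hW.trans le_Ns_Oc_self) (coprime_of_odd (isPGroup_of_sq h2) odd_card_Oc) hN
    exact (h3 (rk_bot hM c hj (hW ha)
      (orderOf_eq_prime (by rw [pow_two]; exact h2 a ha) a1))).elim

theorem AK.oz_le (h : AK M) (c : CT M) : ∃ S : Sylow 2 M, oz (S : Subgroup M) ≤ 4 := by
  have : Fact (Nat.Prime 2) := ⟨Nat.prime_two⟩
  have := h.normal
  obtain ⟨x, hx, x1, ho, t, -, ht, hi⟩ := h.real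
  obtain ⟨j, hj, -, hxN⟩ := h.key x hx x1 ho t ht hi
  have hN : Oc (M ⊓ C1 j) ≠ ⊥ := fun e => x1 (by rwa [e] at hxN)
  have hjj : j * j = 1 := by rw [← pow_two, ← hj, pow_orderOf_eq_one]
  obtain ⟨T, hT⟩ := (tw_of_sq hjj).isPGroup.exists_le_sylow
  have hS := isSylowIn_inf_of_normal T M
  set S0 : Subgroup G := (T : Subgroup G) ⊓ M with hS0
  have hjS : j ∈ Ns S0 :=
    mem_Ns_inf (le_normalizer (hT (mem_zpowers j)))
      ((normalizer_eq_top M).symm ▸ mem_top j : j ∈ normalizer (M : Set G))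
  let E : Subgroup G :=
    { carrier := {z | z ∈ S0 ⊓ Cs S0 ∧ z * z = 1}
      one_mem' := ⟨one_mem _, mul_one 1⟩
      mul_mem' := by
        rintro a b ⟨ha, ha'⟩ ⟨hb, hb'⟩
        refine ⟨mul_mem ha hb, ?_⟩
        rw [mul_assoc, ← mul_assoc b, mem_Cs.1 ha.2 b hb.1, mul_assoc, hb', mul_one, ha']
      inv_mem' := by
        rintro a ⟨ha, ha'⟩
        exact ⟨inv_mem ha, by rw [← mul_inv_rev, ha', inv_one]⟩ }
  have hE : ∀ v ∈ E, v * v = 1 := fun v hv => hv.2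
  have hjE : j ∈ Ns E := mem_normalizer_fintype fun n hn =>
    ⟨(mem_normalizer_iff.1 (mem_Ns_inf hjS (mem_Ns_Cs hjS)) n).1 hn.1, by
      rw [conj_mul', hn.2, mul_one, mul_inv_cancel]⟩
  have h1 := rk_sq hE hjE hjj
  have h2 := rk_two h.normal c hj hN (W := C1 j ⊓ E)
    (fun w hw => ⟨hw.2.1.1.2, hw.1⟩) (fun w hw => hw.2.2)
  refine ⟨hS.toSylow, le_trans ?_ (h1.trans (by nlinarith))⟩
  refine Nat.card_le_card_of_injective (fun z => (⟨((z.1 : M) : G), ⟨z.1.2, mem_Cs.2 fun u hu =>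
    congrArg (fun w : (hS.toSylow : Subgroup M) => ((w : M) : G))
      (z.2.2 ⟨⟨u, hu.2⟩, hu⟩)⟩,
    congrArg (fun w : (hS.toSylow : Subgroup M) => ((w : M) : G)) z.2.1⟩ : E)) ?_
  intro a b hab
  exact Subtype.ext (Subtype.ext (Subtype.ext (congrArg (fun w : E => (w : G)) hab)))

end Cfsg.Lib.RC2
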