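import Cfsg.Agent.RC2.Defs
import Cfsg.Agent.S0028
import Cfsg.Agent.S1326
import Cfsg.Agent.S0009
import Cfsg.Prelude.Def_EvenType

/-!
# Real classes with equal 2-parts: real elements centralise `O₂`, a component exists
-/

set_option autoImplicit false

namespace Cfsg.Lib.RC2

open Subgroup Cfsg.Lib.Gold Cfsg.Lib.Trans

variable {G : Type*} [Group G] [Finite G] {G1 : Subgroup G}

theorem BS.cent (h : BS G1) {x y : G} (hx : x ∈ G1) (ho : Odd (orderOf x))
    (hy : y * x * y⁻¹ = x⁻¹) : x ∈ Cs (pCoreOf 2 G1) := by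
  have : Fact (Nat.Prime 2) := ⟨Nat.prime_two⟩
  by_cases x1 : x = 1
  · rw [x1]; exact one_mem _
  obtain ⟨m, -, h2, hy⟩ := exists_tw_inverts hy
  generalize y ^ m = y at h2 hy
  obtain ⟨j, j2, xj, yj⟩ := exists_inv_comm' (h.h0 x hx x1 ho y hy) h2 hy
  have hJ : IsPGroup 2 (zpowers j) := (tw_of_orderOf (k := 1) j2).isPGroup
  have hN := h.hs (zpowers j) hJ (fun e => by
      rw [zpowers_eq_bot] at e; rw [e, orderOf_one] at j2; omega) x
    ⟨hx, (Cs_zpowers j).ge xj⟩ ho y (centralizer_le_normalizer _ ((Cs_zpowers j).ge yj)) hy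
  have hR : IsPGroup 2 (pCoreOf 2 G1) := Local.isPGroup_pCoreOf G1
  have nR : ∀ g : G, g ∈ Ns (pCoreOf 2 G1) := fun g =>
    Local.normalizer_le_normalizer_pCoreOf G1 (by
      have := h.normal
      exact le_normalizer_of_normal (mem_top g))
  refine Agent.S0028.result 2 (zpowers j) (zpowers x) _ hJ ?_ hR ?_ (fun g _ => nR g)
    (fun g _ => nR g) ?_ (mem_zpowers x)
  · rw [Nat.card_zpowers]; exact Nat.coprime_two_right.2 ho
  · exact zpowers_le.2 ((Cs_zpowers x).ge (mem_C1.2 (mem_C1.1 xj).symm))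
  · intro r hr
    refine (Cs_zpowers x).ge (mem_C1.2 (mul_inv_eq_iff_eq_mul.1 (mul_inv_eq_one.1 (mem_bot.1
      ((inf_eq_bot_of_odd hR (odd_card_Oc (L := G1 ⊓ Cs (zpowers j)))).le
        (mem_inf.2 ⟨?_, ?_⟩))))))
    · have := mul_mem (mem_inf.1 hr).1 ((mem_normalizer_iff.1 (nR x) _).1 (inv_mem (mem_inf.1 hr).1))
      simpa only [mul_assoc] using this
    · exact mul_mem (mem_normalizer_conj (le_Ns_Oc_self
        (show r ∈ G1 ⊓ Cs (zpowers j) from ⟨Local.pCoreOf_le G1 hr.1, hr.2⟩)) hN) (inv_mem hN)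

theorem exists_comp (h : Oc G1 = ⊥) {x : G} (hx : x ∈ G1) (x1 : x ≠ 1) (ho : Odd (orderOf x))
    (hc : x ∈ Cs (pCoreOf 2 G1)) : ∃ L : Subgroup G, IsComponentOf L G1 := by
  by_contra hn
  have hl : layer G1 = ⊥ := sSup_eq_bot.2 fun K hK => (hn ⟨K.map G1.subtype, map_subtype_le _, by
    rwa [subgroupOf, comap_map_eq_self_of_injective G1.subtype_injective]⟩).elim
  have hF : (fittingSubgroup G1).map G1.subtype ≤ pCoreOf 2 G1 := by
    rw [Agent.S0009.result, Subgroup.map_iSup]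
    refine iSup_le fun p => ?_
    by_cases e : (p : ℕ) = 2
    · rw [e]; exact le_rfl
    · have : Fact (p : ℕ).Prime := ⟨p.2⟩
      obtain ⟨k, hk⟩ := IsPGroup.iff_card.1 (Local.isPGroup_pCoreOf (p := p) G1)
      exact (le_Oc_of_le_Ns (Local.pCoreOf_le G1) (Local.le_normalizer_pCoreOf G1)
        (by rw [hk]; exact (p.2.odd_of_ne_two e).pow)).trans (h.le.trans bot_le)
  have h1 : (⟨x, hx⟩ : G1) ∈ fittingSubgroup G1 := Agent.S1326.result.2 hl
    (mem_centralizer_iff.2 fun u hu => Subtype.ext (mem_Cs.1 hc u (hF (mem_map_of_mem _ hu))))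
  exact x1 ((tw_of_mem (Local.isPGroup_pCoreOf G1) (hF (mem_map_of_mem _ h1))).eq_one ho)

end Cfsg.Lib.RC2
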