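import Cfsg.Agent.RC2.Defs
import Cfsg.Agent.Trans.Component
import Cfsg.Agent.Cor.OddSol
import Cfsg.Agent.S3861
import Cfsg.Agent.S0205
import Cfsg.Prelude.Def_EvenType

/-! Real classes with equal 2-parts: a component is simple and normal. -/

set_option autoImplicit false

namespace Cfsg.Lib.RC2

open Subgroup Cfsg.Lib.Gold Cfsg.Lib.Trans

variable {G : Type*} [Group G] [Finite G] {G1 L : Subgroup G}

theorem redB_inv {X : Subgroup G} (h : ¬ Odd (Nat.card X)) : ∃ j ∈ X, orderOf j = 2 := by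
  have : Fact (Nat.Prime 2) := ⟨Nat.prime_two⟩
  obtain ⟨j, hj⟩ := exists_prime_orderOf_dvd_card' (G := X) 2 (Nat.not_odd_iff_even.1 h).two_dvd
  exact ⟨j, j.2, (orderOf_coe j).trans hj⟩

theorem BS.as (h : BS G1) (hL : IsComponentOf L G1) : AS L := by
  have : Fact (Nat.Prime 2) := ⟨Nat.prime_two⟩
  have c : IsComponent L := IsComponent.of_subgroupOf hL.2 hL.1 h.normal.isSubnormal
  have o : Oc L = ⊥ := le_bot_iff.1 (h.o1 ▸ ppCoreOf_le_of_subnormalIn ⟨hL.1, hL.2.1⟩)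
  have hs : ∀ j : G, orderOf j = 2 → ∀ x ∈ L ⊓ C1 j, Odd (orderOf x) →
      ∀ y ∈ C1 j, y * x * y⁻¹ = x⁻¹ → x ∈ Oc (L ⊓ C1 j) := fun j hj x hx ho y hy e => by
    have := h.hs (zpowers j) (tw_of_orderOf (k := 1) hj).isPGroup
      (by rw [Ne, zpowers_eq_bot]; rintro rfl; simp at hj) x (Cs_zpowers j ▸ ⟨hL.1 hx.1, hx.2⟩) ho y
      (Cs_le_Ns (Cs_zpowers j ▸ hy)) e
    rw [Cs_zpowers] at this
    exact Oc_inf_le (inf_le_inf_right _ hL.1) ⟨this, hx⟩
  have nc : ∀ j : G, orderOf j = 2 → ¬ L ≤ C1 j := fun j hj k => by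
    obtain ⟨P⟩ : Nonempty (Sylow 2 L) := inferInstance
    refine IsComponent.not_le_of_isSolvable c (Cor.isSolvable_of_normal_sylow_two P
      ((Cfsg.Agent.S3861.result P).1 fun x x1 ho e => x1 (Subtype.ext ?_))) le_rfl
    obtain ⟨y, e⟩ := isConj_iff.1 e
    have := hs j hj x ⟨x.2, k x.2⟩ (by rwa [orderOf_coe]) y (k y.2) (congrArg Subtype.val e)
    rwa [inf_eq_left.2 k, o, mem_bot] at this
  have z : center L = ⊥ := by
    have k : L ⊓ Cs L ≤ Oc L := le_Oc_of_le_Ns inf_le_left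
      (le_Ns_inf le_normalizer (le_Ns_Cs le_normalizer)) (by
        by_contra k
        obtain ⟨j, hj, j2⟩ := redB_inv k
        exact nc j j2 fun x hx => mem_C1.2 (mem_Cs.1 hj.2 x hx))
    rw [o] at k
    exact eq_bot_iff.2 fun x hx => Subtype.ext (k ⟨x.2, mem_Cs.2 fun u hu =>
      congrArg Subtype.val (mem_center_iff.1 hx ⟨u, hu⟩)⟩)
  refine ⟨normalizer_eq_top_iff.1 (eq_top_iff.2 fun g _ => mem_Ns_iff.2 ?_), ?_, fun k => ?_,
    fun x hx => h.h0 x (hL.1 hx), hs⟩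
  · by_contra ne
    have c' := IsComponent.map_conj c g
    obtain ⟨j, hj, j2⟩ := redB_inv fun k =>
      IsComponent.not_le_of_isSolvable c' (Cfsg.Agent.S0205.result k) le_rfl
    exact nc j j2 ((le_Cs_comm.1 (commutator_eq_bot_iff_le_centralizer.1
      (IsComponent.commutator_eq_bot_of_ne c' c ne))).trans (Cs_le_C1 hj))
  · have := c.2.2
    exact ((QuotientGroup.quotientMulEquivOfEq z).trans QuotientGroup.quotientBot).symm.isSimpleGroup
  · exact IsComponent.not_le_centralizer c fun x hx y hy =>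
      congrArg Subtype.val (k.1.1 ⟨y, hy⟩ ⟨x, hx⟩)

end Cfsg.Lib.RC2
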