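import Cfsg.Agent.RC2.Defs
import Cfsg.Agent.S3861

/-!
# Real classes with equal 2-parts (S3860): the starting point
-/

set_option autoImplicit false

namespace Cfsg.Lib.RC2

open Subgroup Cfsg.Lib.Gold Cfsg.Lib.Trans

variable {G : Type*} [Group G] [Finite G]

theorem start (h : ¬ PP (⊥ : Subgroup G)) : ∃ N K : Subgroup G, N.Normal ∧ K.Normal ∧ N ≤ K ∧
    Odd (Nat.card N) ∧ Odd K.index ∧ ∃ j : ℕ, N.relIndex K = 2 ^ j := by
  have hO : Odd (Nat.card (oddCore G)) := Solv.odd_card_oddCore G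
  have hs := QuotientGroup.mk'_surjective (oddCore G)
  obtain ⟨P⟩ : Nonempty (Sylow 2 (G ⧸ oddCore G)) := inferInstance
  by_cases hP : (P : Subgroup (G ⧸ oddCore G)).Normal
  · refine ⟨oddCore G, (P : Subgroup (G ⧸ oddCore G)).comap (QuotientGroup.mk' _), inferInstance,
      inferInstance, fun x hx => ?_, hO, ?_, ?_⟩
    · rw [mem_comap, QuotientGroup.mk'_apply, (QuotientGroup.eq_one_iff x).2 hx]
      exact one_mem _
    · rw [index_comap_of_surjective _ hs]
      exact Nat.odd_iff.2 (Nat.two_dvd_ne_zero.1 P.not_dvd_index)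
    · obtain ⟨j, hj⟩ := P.isPGroup'.exists_card_eq
      refine ⟨j, ?_⟩
      have := relIndex_ker ((P : Subgroup (G ⧸ oddCore G)).comap (QuotientGroup.mk' _))
        (QuotientGroup.mk' (oddCore G))
      rwa [QuotientGroup.ker_mk', map_comap_eq_self_of_surjective hs, hj] at this
  · exfalso
    refine hP ((Agent.S3861.result P).1 fun a a1 ho ha => h ?_)
    obtain ⟨b, hb⟩ := isConj_iff.1 ha
    obtain ⟨x, rfl⟩ := hs a
    obtain ⟨y, rfl⟩ := hs b
    have h1 : Cs (⊥ : Subgroup G) = ⊤ := by simp [Cs]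
    have h2 : Oc (Cs (⊥ : Subgroup G)) = oddCore G := by rw [h1]; exact ppCoreOf_top
    refine ⟨x, h1 ▸ mem_top x, ?_, ?_, y, Cs_le_Ns (h1 ▸ mem_top y), ?_⟩
    · have h3 : x ^ orderOf (QuotientGroup.mk' (oddCore G) x) ∈ oddCore G := by
        rw [← QuotientGroup.eq_one_iff, ← QuotientGroup.mk'_apply, map_pow, pow_orderOf_eq_one]
      refine (ho.mul hO).of_dvd_nat (orderOf_dvd_of_pow_eq_one ?_)
      rw [pow_mul]
      exact orderOf_dvd_iff_pow_eq_one.1 (orderOf_dvd_natCard _ h3)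
    · rw [h2, ← QuotientGroup.eq_one_iff]
      exact a1
    · rw [h2, ← QuotientGroup.eq_one_iff, ← QuotientGroup.mk'_apply, map_mul, map_mul, map_mul,
        map_inv, hb, inv_mul_cancel]

end Cfsg.Lib.RC2
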