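import Cfsg.Agent.RC2.Defs
import Cfsg.Agent.S1248
import Cfsg.Agent.S0280
import Cfsg.Agent.S0215
import Cfsg.Agent.Trans.AutSmall
import Cfsg.Agent.Bender.CoreBasic2
import Cfsg.Agent.FT.Metacyclic

/-!
# Real classes with equal 2-parts (S3860): real elements of order 3 of `U₃(4)`
-/

set_option autoImplicit false

namespace Cfsg.Lib.RC2

open Subgroup Cfsg.Lib.Gold Cfsg.Lib.Trans Matrix

variable {G : Type*} [Group G] [Finite G] {F : Type*} [Field F] [Fintype F]

namespace UOdd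

/-- The properties of a Sylow 2-subgroup of `U₃(4)` that are used. -/
structure UP (S : Subgroup G) : Prop where
  klein : IsKleinFour (S ⊓ Cs S : Subgroup G)
  inv : ∀ a ∈ S, orderOf a = 2 → a ∈ Cs S
  comm : S ⊓ Cs S ≤ ⁅S, S⁆

omit [Finite G] in
theorem up_of {P : Type*} [Group P] {S : Subgroup G} (φ : P →* G) (hi : Function.Injective φ)
    (hr : (⊤ : Subgroup P).map φ = S) (h1 : IsKleinFour (center P))
    (h2 : center P = closure {x : P | orderOf x = 2}) (h3 : center P = commutator P) : UP S := by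
  have hm : ∀ a : P, φ a ∈ S := fun a => hr ▸ mem_map_of_mem φ (mem_top a)
  have hs : ∀ a ∈ S, ∃ b, φ b = a := fun a ha => by
    rw [← hr] at ha
    obtain ⟨b, -, hb⟩ := ha
    exact ⟨b, hb⟩
  have hc : ∀ a : P, a ∈ center P → φ a ∈ Cs S := fun a ha => mem_Cs.2 fun u hu => by
    obtain ⟨b, rfl⟩ := hs u hu
    rw [← map_mul, ← map_mul, mem_center_iff.1 ha b]
  have hV : (center P).map φ = S ⊓ Cs S := by
    refine le_antisymm ?_ ?_
    · rintro _ ⟨a, ha, rfl⟩
      exact ⟨hm a, hc a ha⟩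
    · rintro a ⟨ha, ha'⟩
      obtain ⟨b, rfl⟩ := hs a ha
      refine mem_map_of_mem φ (mem_center_iff.2 fun g => hi ?_)
      rw [map_mul, map_mul]
      exact mem_Cs.1 ha' _ (hm g)
  refine ⟨?_, fun a ha ho => ?_, ?_⟩
  · rw [← hV]
    have e := (center P).equivMapOfInjective φ hi
    exact ⟨by rw [← Nat.card_congr e.toEquiv, h1.card_four],
      by rw [← Monoid.exponent_eq_of_mulEquiv e, h1.exponent_two]⟩
  · obtain ⟨b, rfl⟩ := hs a ha
    refine hc b ?_
    rw [h2]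
    exact subset_closure (by rw [Set.mem_ofPred_eq, ← orderOf_injective φ hi b, ho])
  · rw [← hV, h3, commutator_def, map_commutator, hr]

theorem up_psu (hF : Fintype.card F = 16) (e : G ≃* PSU 3 F 4) (S : Sylow 2 G) :
    UP (S : Subgroup G) := by
  have : Fact (Nat.Prime 2) := ⟨Nat.prime_two⟩
  have : Finite (PSU 3 F 4) := Finite.of_equiv G e.toEquiv
  let S' : Sylow 2 (PSU 3 F 4) := S.mapSurjective (f := e.toMonoidHom) e.surjective
  obtain ⟨-, h1, h2, h3, -⟩ := Cfsg.Agent.S1248.result hF S'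
  refine up_of (e.symm.toMonoidHom.comp (S' : Subgroup (PSU 3 F 4)).subtype)
    (e.symm.injective.comp Subtype.val_injective) ?_ h1 h2 h3
  rw [← Subgroup.map_map, ← MonoidHom.range_eq_map, range_subtype]
  change ((S : Subgroup G).map e.toMonoidHom).map e.symm.toMonoidHom = S
  rw [Subgroup.map_map]
  have : e.symm.toMonoidHom.comp e.toMonoidHom = MonoidHom.id G := by
    ext g
    simp
  rw [this, Subgroup.map_id]

omit [Finite G] in
theorem card_eq (hF : Fintype.card F = 16) (e : G ≃* PSU 3 F 4) : Nat.card G = 62400 := by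
  have h := Cfsg.Agent.S0280.result (F := F) (q := 4) (by rw [hF]; norm_num) 3 (by norm_num)
  rw [← Nat.card_congr e.toEquiv] at h
  norm_num [Finset.prod_range_succ] at h
  omega

theorem three_dvd [IsSimpleGroup G] (S : Sylow 2 G) (hS : UP (S : Subgroup G))
    (hG : ¬ IsMulCommutative G) :
    3 ∣ (Cs ((S : Subgroup G) ⊓ Cs S)).relIndex (Ns ((S : Subgroup G) ⊓ Cs S)) := by
  have : Fact (Nat.Prime 2) := ⟨Nat.prime_two⟩
  set V : Subgroup G := (S : Subgroup G) ⊓ Cs S with hVd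
  have hk := hS.klein
  have hnt : Nontrivial V := Finite.one_lt_card_iff_nontrivial.1 (by rw [hk.card_four]; norm_num)
  obtain ⟨z, hz⟩ := exists_ne (1 : V)
  have hz1 : (z : G) ≠ 1 := fun h => hz (Subtype.ext h)
  have hz2 : orderOf (z : G) = 2 := by
    refine orderOf_eq_prime ?_ hz1
    rw [pow_two]
    exact congrArg Subtype.val (IsKleinFour.mul_self z)
  have hex : ∃ g : G, g * z * g⁻¹ ∈ S ∧ g * z * g⁻¹ ≠ z := by
    by_contra hc
    push Not at hc
    obtain ⟨N, hN, ho, hall⟩ := Cfsg.Agent.S0215.result S z hz2 z.2.1 hc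
    rcases hN.eq_bot_or_eq_top with rfl | rfl
    · have hzc : (z : G) ∈ center G := mem_center_iff.2 fun g => by
        have := mem_bot.1 (hall g)
        rw [mul_inv_eq_one, mul_inv_eq_iff_eq_mul] at this
        exact this.symm
      rcases (inferInstance : (center G).Normal).eq_bot_or_eq_top with h | h
      · rw [h] at hzc
        exact hz1 hzc
      · refine hG ⟨⟨fun a b => ?_⟩⟩
        exact mem_center_iff.1 (h ▸ mem_top b) a
    · have := odd_orderOf_of_mem (mem_top (z : G)) ho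
      rw [hz2] at this
      exact absurd this (by decide)
  obtain ⟨g, hg, hne⟩ := hex
  have ho' : orderOf (g * z * g⁻¹) = 2 := by
    rw [← hz2]
    exact (MulAut.conj g).orderOf_eq z
  obtain ⟨n, hn, hn'⟩ := S.conj_eq_normalizer_conj_of_mem_centralizer z g⁻¹ z.2.2
    (by rw [inv_inv]; exact hS.inv _ hg ho')
  rw [inv_inv] at hn'
  have hnV : n ∈ Ns V := mem_Ns_inf hn (mem_Ns_Cs hn)
  have hnC : n ∉ Cs V := fun h => hne (by
    rw [hn', mul_assoc, mem_Cs.1 h z z.2, inv_mul_cancel_left])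
  have h6 := klein_relIndex_dvd hk
  have h1 : (Cs V).relIndex (Ns V) ≠ 1 := fun h => hnC (relIndex_eq_one.1 h hnV)
  have hSC : (S : Subgroup G) ≤ Cs V := le_Cs_comm.1 inf_le_right
  have h2 : ¬ 2 ∣ (Cs V).relIndex (Ns V) :=
    (isSylowIn_of_le S (hSC.trans Cs_le_Ns)).not_dvd_relIndex_of_le hSC
  have h7 := Nat.le_of_dvd (by norm_num) h6
  change (Cs V).relIndex (Ns V) ∣ 6 at h6
  change (Cs V).relIndex (Ns V) ≤ 6 at h7
  generalize (Cs V).relIndex (Ns V) = k at *
  interval_cases k <;> omega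

theorem core [IsSimpleGroup G] (h : IN G) (h9 : ¬ 9 ∣ Nat.card G) (hG : ¬ IsMulCommutative G)
    (hU : ∀ S : Sylow 2 G, UP (S : Subgroup G)) {x t : G} (hx : orderOf x = 3)
    (ht : t * x * t⁻¹ = x⁻¹) : Odd (Nat.card (C1 x)) := by
  have : Fact (Nat.Prime 2) := ⟨Nat.prime_two⟩
  have : Fact (Nat.Prime 3) := ⟨Nat.prime_three⟩
  by_contra hev
  rw [Nat.not_odd_iff_even] at hev
  obtain ⟨m, -, htw, hinv⟩ := exists_tw_inverts ht
  obtain ⟨j, hj, hxj, htj⟩ := exists_inv_comm' hev htw hinv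
  have hxN : x ∈ Oc (C1 j) := h j hj x hxj (by rw [hx]; decide) _ htj hinv
  obtain ⟨S, hS⟩ := (tw_of_orderOf (k := 1) (y := j) (by rw [hj]; norm_num)).isPGroup.exists_le_sylow
  have hjS : j ∈ (S : Subgroup G) := hS (mem_zpowers j)
  have hSC : (S : Subgroup G) ≤ C1 j := fun s hs =>
    mem_C1.2 (mem_Cs.1 ((hU S).inv j hjS hj) s hs)
  obtain ⟨P, hP, -, hSP⟩ := Bender.exists_inv_sylow (p := 3) (X := Oc (C1 j)) (R := ⊥)
    odd_card_Oc S.isPGroup' (hSC.trans le_Ns_Oc_self) bot_le IsPGroup.of_bot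
    (fun g _ => Bender.mem_Ns_bot g)
  have hP3 : Nat.card P = 3 := by
    obtain ⟨k, hk⟩ := IsPGroup.iff_card.1 hP.isPGroup
    have hne : P ≠ ⊥ := fun e => hP.eq_bot_iff.1 e (hx ▸ orderOf_dvd_natCard _ hxN)
    have hk0 : k ≠ 0 := fun e => hne (card_eq_one.1 (by rw [hk, e, pow_zero]))
    have hk2 : ¬ 2 ≤ k := fun e => h9 (((pow_dvd_pow 3 e).trans (hk ▸ dvd_rfl)).trans
      (card_subgroup_dvd_card P))
    rw [hk, show k = 1 by omega, pow_one]
  have hcyc : IsCyclic P := isCyclic_of_prime_card hP3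
  have hVP : (S : Subgroup G) ⊓ Cs S ≤ Cs P :=
    (hU S).comm.trans ((commutator_mono hSP hSP).trans (FT.Metacyclic.der_norm_cent_cyclic hcyc))
  have h3 : 3 ∣ Nat.card (Cs ((S : Subgroup G) ⊓ Cs S)) :=
    hP3 ▸ card_dvd_of_le (le_Cs_comm.1 hVP)
  have h4 := three_dvd S (hU S) hG
  have h5 := card_mul_relIndex (Cs_le_Ns (U := (S : Subgroup G) ⊓ Cs S))
  exact h9 ((h5 ▸ mul_dvd_mul h3 h4).trans (card_subgroup_dvd_card _))

end UOdd

open UOdd in
theorem u34_odd [IsSimpleGroup G] (h : IN G) (hF : Fintype.card F = 16) (e : G ≃* PSU 3 F 4) {x t : G} (hx : orderOf x = 3) (ht : t * x * t⁻¹ = x⁻¹) : Odd (Nat.card (C1 x)) := by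
  have hc := card_eq hF e
  refine core h (by rw [hc]; norm_num) (fun hm => ?_) (up_psu hF e) hx ht
  have h1 : x = 1 := eq_one_of_inverts_of_comm (by rw [hx]; decide) ht (hm.is_comm.comm t x)
  rw [h1, orderOf_one] at hx
  omega

end Cfsg.Lib.RC2
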