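import Cfsg.Agent.RC2.Defs
import Cfsg.Agent.S0280
import Cfsg.Agent.S1248

/-!
# Real classes with equal 2-parts: numerical data of `U₃(4)`
-/

set_option autoImplicit false

namespace Cfsg.Lib.RC2

open Subgroup Cfsg.Lib.Gold Cfsg.Lib.Trans Matrix

variable {G : Type*} [Group G] [Finite G] {F : Type*} [Field F] [Fintype F]

private theorem usm_pow {x t : G} (hx : orderOf x = 3) (ht : t ∈ Ns (zpowers x)) :
    t * x * t⁻¹ = x ∨ t * x * t⁻¹ = x⁻¹ := by
  have h3 : x ^ 3 = 1 := hx ▸ pow_orderOf_eq_one x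
  have h := mem_normalizer_conj ht (mem_zpowers x)
  rw [← mem_powers_iff_mem_zpowers] at h
  obtain ⟨k, hk⟩ := h
  change x ^ k = _ at hk
  rw [pow_eq_pow_mod k h3] at hk
  have : k % 3 = 0 ∨ k % 3 = 1 ∨ k % 3 = 2 := by omega
  rcases this with e | e | e <;> rw [e] at hk
  · rw [pow_zero, eq_comm, conj_eq_one_iff] at hk
    rw [hk, orderOf_one] at hx; omega
  · exact .inl (by rw [← hk, pow_one])
  · exact .inr (by rw [← hk]; exact eq_inv_of_mul_eq_one_left (by rw [← pow_succ, h3]))

theorem u34_sm [IsSimpleGroup G] (hF : Fintype.card F = 16) (e : G ≃* PSU 3 F 4)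
    (ho : ∀ x t : G, orderOf x = 3 → t * x * t⁻¹ = x⁻¹ → Odd (Nat.card (C1 x))) : Sm G 3 := by
  have : Fact (Nat.Prime 3) := ⟨Nat.prime_three⟩
  have : Fact (Nat.Prime 2) := ⟨Nat.prime_two⟩
  have hc : Nat.card G = 62400 := by
    have := Agent.S0280.result (F := F) (q := 4) hF 3 (by norm_num)
    rw [Nat.card_congr e.toEquiv]
    norm_num [Finset.prod_range_succ] at this
    omega
  refine ⟨Nat.prime_three, by norm_num, by rw [hc]; norm_num, by rw [hc]; norm_num, fun s hs => ?_, ?_⟩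
  · have : Finite (PSU 3 F 4) := Finite.of_equiv G e.toEquiv
    obtain ⟨P, hP⟩ := (hs.map e.toMonoidHom).isPGroup.exists_le_sylow
    obtain ⟨-, h1, -, -, -, h2⟩ := Agent.S1248.result hF P
    have h3 := hP (mem_zpowers _)
    have h4 : (⟨_, h3⟩ : (P : Subgroup (PSU 3 F 4))) ^ 2 ∈ center _ :=
      (QuotientGroup.eq_one_iff _).1 (h2 (QuotientGroup.mk _))
    have h5 := congrArg Subtype.val (congrArg Subtype.val
      (IsKleinFour.mul_self (⟨_, h4⟩ : center (P : Subgroup (PSU 3 F 4)))))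
    refine e.injective ?_
    rw [map_pow, map_one]
    exact (pow_add _ 2 2).trans h5
  · obtain ⟨x, hx⟩ := exists_prime_orderOf_dvd_card' (G := G) 3 (by rw [hc]; norm_num)
    have cx : Nat.card (zpowers x) = 3 := by rw [Nat.card_zpowers, hx]
    have ix : (zpowers x).index = 20800 := by
      have := (zpowers x).card_mul_index
      rw [cx, hc] at this; omega
    let P : Sylow 3 G := (IsPGroup.of_card (n := 1) cx).toSylow (by rw [ix]; norm_num)
    obtain ⟨t, ht, h1⟩ : ∃ t ∈ Ns (zpowers x), t ∉ Cs (zpowers x) := by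
      by_contra! H
      have hP : normalizer ((P : Subgroup G) : Set G) ≤ centralizer ((P : Subgroup G) : Set G) := H
      have h2 := (MonoidHom.ker_transferSylow_isComplement' P hP).card_mul_card
      rw [show Nat.card (P : Subgroup G) = 3 from cx, hc] at h2
      rcases IsSimpleGroup.eq_bot_or_eq_top_of_normal (MonoidHom.transferSylow P hP).ker
        inferInstance with f | f <;> rw [f] at h2
      · rw [card_bot] at h2; omega
      · rw [card_top, hc] at h2; omega
    rw [Cs_zpowers, mem_C1] at h1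
    have h2 := (usm_pow hx ht).resolve_left fun f => h1 (mul_inv_eq_iff_eq_mul.1 f)
    refine ⟨x, t, hx, h2, fun h4 => ?_⟩
    have le : C1 x ≤ Ns (zpowers x) := (Cs_zpowers x).ge.trans (centralizer_le_normalizer _)
    have h5 : ((C1 x).subgroupOf (Ns (zpowers x))).index = 2 := by
      refine index_eq_two_iff_exists_notMem_and.2 ⟨⟨t, ht⟩, fun f => h1 (mem_C1.1 f), fun b => ?_⟩
      rcases usm_pow hx b.2 with f | f
      · exact .inr (mem_C1.2 (mul_inv_eq_iff_eq_mul.1 f))
      · refine .inl (mem_C1.2 (mul_inv_eq_iff_eq_mul.1 ?_))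
        change (b : G) * t * x * ((b : G) * t)⁻¹ = x
        rw [show (b : G) * t * x * ((b : G) * t)⁻¹ = b * (t * x * t⁻¹) * (b : G)⁻¹ by group, h2,
          show (b : G) * x⁻¹ * (b : G)⁻¹ = ((b : G) * x * (b : G)⁻¹)⁻¹ by group, f, inv_inv]
    have h6 := ((C1 x).subgroupOf (Ns (zpowers x))).card_mul_index
    rw [h5, Nat.card_congr (subgroupOfEquivOfLe le).toEquiv] at h6
    obtain ⟨k, hk⟩ := ho x t hx h2
    omega

end Cfsg.Lib.RC2
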