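import Cfsg.Agent.RC2.Defs
import Cfsg.Agent.S0112
import Cfsg.Agent.S0113

/-! The endgame for `U₃(4)` and `L₃(4)`. -/

set_option autoImplicit false

namespace Cfsg.Lib.RC2

open Subgroup Cfsg.Lib.Gold Cfsg.Lib.Trans

variable {G : Type*} [Group G] [Finite G] {M : Subgroup G}

omit [Finite G] in
private theorem two_el {R : Subgroup G} (h : Nat.card R = 2) {a b : G} (ha : a ∈ R) (hb : b ∈ R)
    (a1 : a ≠ 1) : b = 1 ∨ b = a := by
  obtain ⟨y, -, hy⟩ := (Nat.card_eq_two_iff' (1 : R)).1 h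
  exact or_iff_not_imp_left.2 fun b1 => congrArg Subtype.val
    ((hy ⟨b, hb⟩ fun e => b1 (congrArg Subtype.val e)).trans
      (hy ⟨a, ha⟩ fun e => a1 (congrArg Subtype.val e)).symm)

theorem AK.small (h : AK M) {p : ℕ} (s : Sm M p) : False := by
  have : Fact p.Prime := ⟨s.prime⟩
  have : Fact (Nat.Prime 2) := ⟨Nat.prime_two⟩
  have hn := h.normal
  obtain ⟨x, t0, hx, ht0, h4⟩ := s.elt
  obtain ⟨m, -, tw, ht⟩ := exists_tw_inverts ht0
  generalize t0 ^ m = t at tw ht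
  replace tw : Tw (t : G) := tw.map M.subtype
  replace ht : (t : G) * x * (t : G)⁻¹ = (x : G)⁻¹ := congrArg Subtype.val ht
  rw [← orderOf_coe] at hx
  have ox : Odd (orderOf (x : G)) := hx ▸ s.prime.odd_of_ne_two s.ne_two
  have x1 : (x : G) ≠ 1 := fun e => s.prime.ne_one (by rw [← hx, e, orderOf_one])
  obtain ⟨j, j2, tj, xN⟩ := h.key x x.2 x1 ox t tw ht
  have jj : j * j = 1 := by rw [← sq, ← j2, pow_orderOf_eq_one]
  have j1 : j ≠ 1 := fun e => by simp [e] at j2
  have hP : IsSylowIn p (zpowers (x : G)) (Oc (M ⊓ C1 j)) := by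
    have c : Nat.card (zpowers (x : G)) = p := by rw [Nat.card_zpowers, hx]
    refine ⟨zpowers_le.2 xN, IsPGroup.of_card (n := 1) (by rw [c, pow_one]), fun k => s.sq ?_⟩
    refine dvd_trans ?_ (card_dvd_of_le (Oc_le.trans inf_le_left : Oc (M ⊓ C1 j) ≤ M))
    rw [← card_mul_relIndex (zpowers_le.2 xN), c, sq]
    exact mul_dvd_mul_left p k
  have t1 : (t : G) ≠ 1 := fun e => x1 (eq_one_of_inverts_of_comm ox ht (by simp [e]))
  have key : ∀ R ≤ M ⊓ C1 j, IsPGroup 2 R → (t : G) ∈ R → Nat.card R = 2 := fun R hR h2 tR => by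
    obtain ⟨Q, q1, q2, q3, q4⟩ := Solv.Coprime.exists_invariant_sylow' (hR.trans le_Ns_Oc_self)
      (coprime_of_odd h2 odd_card_Oc) (.inl (haveI := h2.isNilpotent; inferInstance)) p
    obtain ⟨k, hk, e⟩ := hP.exists_cj_eq ⟨q1, q2, q3⟩
    have l : cj k R ≤ M := cj_le_of_mem_of_le (Oc_le hk).1 (hR.trans inf_le_left)
    have d : Nat.card R ∣ Nat.card (Ns (zpowers x)) := by
      rw [← card_cj k, ← Nat.card_congr (subgroupOfEquivOfLe l).toEquiv,
        ← comap_map_eq_self_of_injective M.subtype_injective (zpowers x), MonoidHom.map_zpowers]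
      refine card_dvd_of_le ((comap_mono ?_).trans (le_normalizer_comap _))
      rw [show zpowers (M.subtype x) = cj k Q from e.symm, ← cj_normalizer]
      exact cj_mono k q4
    obtain ⟨n, e⟩ := h2.exists_card_eq
    rw [e] at d ⊢
    match n with
    | 0 => exact absurd (mem_bot.1 ((card_eq_one.1 e).le tR)) t1
    | 1 => rfl
    | n + 2 => exact absurd ((pow_dvd_pow 2 (Nat.le_add_left 2 n)).trans d) h4
  have B2 : IsPGroup 2 (zpowers j ⊔ zpowers (t : G) : Subgroup G) :=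
    IsPGroup.to_sup_of_normal_left' (tw_of_sq jj).isPGroup tw.isPGroup
      (zpowers_le.2 (Cs_le_Ns (Cs_zpowers j ▸ tj)))
  have jC : j ∈ C1 j := mem_C1.2 rfl
  have jM : j ∉ M := fun k => by
    rcases two_el (key _ (sup_le (zpowers_le.2 ⟨k, jC⟩) (zpowers_le.2 ⟨t.2, tj⟩)) B2
      (mem_sup_right (mem_zpowers _))) (mem_sup_right (mem_zpowers _))
      (mem_sup_left (mem_zpowers j)) t1 with e | e
    · exact j1 e
    · exact x1 (eq_one_of_inverts_of_comm ox ht (e ▸ (mem_C1.1 (Oc_le xN).2).symm))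
  obtain ⟨T, hT, hB⟩ := exists_isSylowIn_ge (H := M ⊔ zpowers j) B2
    (sup_le le_sup_right (zpowers_le.2 (mem_sup_left t.2)))
  have jT : j ∈ T := hB (mem_sup_left (mem_zpowers j))
  have tT : (t : G) ∈ T := hB (mem_sup_right (mem_zpowers _))
  have Y : ∀ y ∈ T, y ∈ M ∨ y * j ∈ M := fun y hy => by
    obtain ⟨a, ha, b, hb, rfl⟩ := (mem_sup_of_le_normalizer le_normalizer_of_normal).1 (hT.le hy)
    rcases two_el (by rw [Nat.card_zpowers, j2]) (mem_zpowers j) hb j1 with rfl | rfl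
    exacts [.inl (by rwa [mul_one]), .inr (by rwa [mul_assoc, jj, mul_one])]
  have R2 := key (M ⊓ (T ⊓ C1 j)) (inf_le_inf_left _ inf_le_right)
    (hT.isPGroup.to_le (inf_le_right.trans inf_le_left)) ⟨t.2, tT, tj⟩
  have A4 : Nat.card ↥(T ⊓ C1 j) = 2 ^ 2 := by
    rw [← card_mul_relIndex (inf_le_right : M ⊓ _ ≤ _), R2, inf_relIndex_right, relIndex,
      index_eq_two_iff.2 ⟨⟨j, jT, jC⟩, fun b => ?_⟩]
    · rfl
    by_cases k : (b : G) ∈ M
    · exact .inr ⟨k, fun l => jM ((Subgroup.mul_mem_cancel_left _ k).1 l)⟩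
    · exact .inl ⟨(Y b b.2.1).resolve_left k, k⟩
  have ct : ∀ b ∈ T ⊓ C1 j, b = 1 ∨ b = t ∨ b = j ∨ b = t * j := fun b hb => by
    rcases Y b hb.1 with k | k
    · exact (two_el R2 ⟨t.2, tT, tj⟩ ⟨k, hb⟩ t1).imp_right .inl
    · rcases two_el R2 ⟨t.2, tT, tj⟩ ⟨k, mul_mem hb ⟨jT, jC⟩⟩ t1 with e | e
      · exact .inr (.inr (.inl (by rw [eq_inv_of_mul_eq_one_left e, inv_eq_of_sq jj])))
      · exact .inr (.inr (.inr (by rw [← e, mul_assoc, jj, mul_one])))
  obtain ⟨n, e⟩ := hT.isPGroup.exists_card_eq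
  have n5 : 5 ≤ n := by
    have h1 := hT.inf_normal_of_le le_normalizer_of_normal le_sup_left
    have h2 := card_lt_of_lt (inf_lt_left.2 fun k : T ≤ M => jM (k jT))
    rw [h1.card_eq, e, Nat.pow_lt_pow_iff_right one_lt_two] at h2
    have := (Nat.prime_two.pow_dvd_iff_le_factorization Nat.card_pos.ne').1
      (show 2 ^ 4 ∣ _ from s.sixteen)
    omega
  obtain ⟨C, c1, c2⟩ := Agent.S0113.result n (by omega) e (Agent.S0112.result n e
    ((C1 j).subgroupOf T) (by
      rw [← A4, ← inf_subgroupOf_left]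
      exact Nat.card_congr (subgroupOfEquivOfLe inf_le_left).toEquiv)
    (le_antisymm (fun g hg => mem_C1.2 (congrArg Subtype.val (hg ⟨j, jT⟩ jC)).symm)
      fun a ha b hb => Subtype.ext (by
        have c : Commute (t : G) j := mem_C1.1 tj
        have k : ∀ b ∈ T ⊓ C1 j, Commute b t ∧ Commute b j := fun b hb => ⟨by
          rcases ct b hb with rfl | rfl | rfl | rfl
          exacts [.one_left _, .refl _, c.symm, (Commute.refl _).mul_left c.symm], mem_C1.1 hb.2⟩
        have l := k b ⟨b.2, hb⟩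
        change Commute (b : G) a
        rcases ct a ⟨a.2, ha⟩ with e | e | e | e <;> rw [e]
        exacts [.one_right _, l.1, l.2, l.1.mul_right l.2])))
  obtain ⟨c, hc⟩ := IsCyclic.exists_ofOrder_eq_natCard (α := C)
  have cM : (c : G) * c ∈ M := (Y c c.1.2).elim (fun k => mul_mem k k) fun k => by
    have := mul_mem k (hn.conj_mem _ k j)
    rwa [show (c : G) * j * (j * (c * j) * j⁻¹) = c * (j * j) * c by group, jj, mul_one] at this
  have c8 : c ^ 8 = 1 := Subtype.ext (Subtype.ext (by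
    have := congrArg Subtype.val (s.exp ⟨_, cM⟩ ((tw_of_mem hT.isPGroup
      (mul_mem c.1.2 c.1.2)).imp fun k hk => Subtype.ext hk))
    rwa [coe_pow, coe_mk, ← sq, ← pow_mul] at this))
  have l := Nat.le_of_dvd (by norm_num) (orderOf_dvd_of_pow_eq_one c8)
  have k := C.card_mul_index
  have : 2 ^ 5 ≤ 2 ^ n := Nat.pow_le_pow_right two_pos n5
  rw [c2, e, ← hc] at k
  omega

end Cfsg.Lib.RC2
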